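import Cfsg.Agent.Lib.FittingHeight.PlaneCentralizer
import Cfsg.Agent.Lib.HallHigman.Twisted

/-!
# Rotations of a symplectic space over `𝔽_q`, `q + 1 = 2 ^ d`

A rotation is an isometry `y` with `τ = y ^ 2 ^ (d-1)` an involution whose negated space is a plane
and whose fixed space is fixed by `y`. In a 2-group of isometries the planes of two rotations are
equal or orthogonal.
-/

set_option autoImplicit false
set_option linter.unusedSectionVars false
set_option linter.style.haveILetI false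

namespace Cfsg.Agent.GrossTwoLength

open Subgroup
open FittingHeight (Plane.Iso)

variable {q : ℕ} [Fact q.Prime] {V : Type*} [AddCommGroup V] [Module (ZMod q) V] [Finite V]
  {C : Type*} [AddCommGroup C]

instance finite_units : Finite (Module.End (ZMod q) V)ˣ :=
  haveI : Finite (Module.End (ZMod q) V) := Finite.of_injective _ DFunLike.coe_injective
  inferInstance

/-- The standing hypotheses. -/
structure Geo (β : V →+ V →+ C) (d : ℕ) : Prop where
  alt : ∀ x, β x x = 0
  nd : ∀ x, (∀ v, β v x = 0) → x = 0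
  noTwo : ∀ c : C, c + c = 0 → c = 0
  ne_two : q ≠ 2
  two_le : 2 ≤ d
  card_eq : q + 1 = 2 ^ d

/-- The involution of a rotation. -/
abbrev tau (d : ℕ) (y : (Module.End (ZMod q) V)ˣ) : (Module.End (ZMod q) V)ˣ := y ^ 2 ^ (d - 1)

/-- The negated space of the involution. -/
def plane (d : ℕ) (y : (Module.End (ZMod q) V)ˣ) : Submodule (ZMod q) V :=
  LinearMap.ker ((tau d y : Module.End (ZMod q) V) + 1)

/-- A rotation. -/
structure IsRot (β : V →+ V →+ C) (d : ℕ) (y : (Module.End (ZMod q) V)ˣ) : Prop where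
  iso : Plane.Iso β y
  pow : y ^ 2 ^ d = 1
  card : Nat.card (plane d y) = q ^ 2
  fix : ∀ f : V, tau d y • f = f → y • f = f

theorem mem_plane {d : ℕ} {y : (Module.End (ZMod q) V)ˣ} {x : V} :
    x ∈ plane d y ↔ tau d y • x = -x := by
  rw [plane, LinearMap.mem_ker, LinearMap.add_apply, Module.End.one_apply, ← eq_neg_iff_add_eq_zero]
  rfl

theorem smul_zmod (g : (Module.End (ZMod q) V)ˣ) (c : ZMod q) (x : V) : g • c • x = c • g • x :=
  map_smul (g : Module.End (ZMod q) V) c x

theorem two_smul_inj (hq : q ≠ 2) {x : V} (h : x + x = 0) : x = 0 := by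
  refine (smul_eq_zero.1 (?_ : (2 : ZMod q) • x = 0)).resolve_left
    (FittingHeight.Plane.two_ne_zero' hq)
  rwa [two_smul]

theorem Geo.skew {β : V →+ V →+ C} {d : ℕ} (G : Geo (q := q) β d) (x v : V) : β v x = -β x v :=
  FittingHeight.Plane.skew G.alt x v

theorem Geo.skew_zero {β : V →+ V →+ C} {d : ℕ} (G : Geo (q := q) β d) {x v : V} (h : β x v = 0) :
    β v x = 0 := by rw [G.skew, h, neg_zero]

theorem Geo.pow_sub_one_succ {β : V →+ V →+ C} {d : ℕ} (G : Geo (q := q) β d) :
    2 ^ (d - 1) * 2 = 2 ^ d := by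
  rw [← pow_succ, Nat.sub_add_cancel (by have := G.two_le; omega)]

namespace IsRot

variable {β : V →+ V →+ C} {d : ℕ} {y z : (Module.End (ZMod q) V)ˣ}

theorem tau_sq (G : Geo (q := q) β d) (hy : IsRot β d y) : tau d y * tau d y = 1 := by
  rw [← pow_add, ← mul_two, G.pow_sub_one_succ, hy.pow]

theorem tau_inv (G : Geo (q := q) β d) (hy : IsRot β d y) : (tau d y)⁻¹ = tau d y :=
  inv_eq_of_mul_eq_one_left (hy.tau_sq G)

theorem tau_iso (hy : IsRot β d y) : Plane.Iso β (tau d y) := hy.iso.pow _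

theorem tau_comm : tau d y * y = y * tau d y := (Commute.pow_self y _).eq

theorem decomp (G : Geo (q := q) β d) (hy : IsRot β d y) (v : V) :
    ∃ t ∈ plane d y, ∃ f, tau d y • f = f ∧ v = t + f := by
  set c : ZMod q := 2⁻¹
  have h2 : (2 : ZMod q) ≠ 0 := FittingHeight.Plane.two_ne_zero' G.ne_two
  have htt : tau d y • tau d y • v = v := by rw [smul_smul, hy.tau_sq G, one_smul]
  refine ⟨c • (v - tau d y • v), ?_, c • (v + tau d y • v), ?_, ?_⟩
  · rw [mem_plane, smul_zmod, smul_sub, htt, ← smul_neg, neg_sub]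
  · rw [smul_zmod, smul_add, htt, add_comm]
  · rw [← smul_add, sub_add_add_cancel, ← two_smul (ZMod q) v, smul_smul, inv_mul_cancel₀ h2,
      one_smul]

theorem orth (G : Geo (q := q) β d) (hy : IsRot β d y) {x f : V} (hx : x ∈ plane d y)
    (hf : tau d y • f = f) : β x f = 0 :=
  FittingHeight.Plane.orth_of_isometry G.noTwo hy.tau_iso (mem_plane.1 hx) hf

theorem nondeg (G : Geo (q := q) β d) (hy : IsRot β d y) {x : V} (hx : x ∈ plane d y)
    (h : ∀ t ∈ plane d y, β t x = 0) : x = 0 := by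
  refine G.nd x fun v => ?_
  obtain ⟨t, ht, f, hf, rfl⟩ := hy.decomp G v
  rw [map_add, AddMonoidHom.add_apply, h t ht, G.skew_zero (hy.orth G hx hf), add_zero]

theorem fixed_of_orth (G : Geo (q := q) β d) (hy : IsRot β d y) {v : V}
    (h : ∀ x ∈ plane d y, β x v = 0) : tau d y • v = v := by
  obtain ⟨t, ht, f, hf, rfl⟩ := hy.decomp G v
  have ht0 : t = 0 := hy.nondeg G ht fun x hx => by
    have := h x hx
    rwa [map_add, hy.orth G hx hf, add_zero] at this
  rw [ht0, zero_add, hf]

theorem smul_mem (hy : IsRot β d y) {x : V} (hx : x ∈ plane d y) : y • x ∈ plane d y := by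
  rw [mem_plane, smul_smul, tau_comm, ← smul_smul, mem_plane.1 hx, smul_neg]

theorem smul_sub_mem (G : Geo (q := q) β d) (hy : IsRot β d y) (v : V) :
    y • v - v ∈ plane d y := by
  obtain ⟨t, ht, f, hf, rfl⟩ := hy.decomp G v
  rw [smul_add, hy.fix f hf, add_sub_add_right_eq_sub]
  exact sub_mem (hy.smul_mem ht) ht

theorem disjoint (G : Geo (q := q) β d) (_ : IsRot β d y) {x : V} (hx : x ∈ plane d y)
    (hf : tau d y • x = x) : x = 0 :=
  two_smul_inj G.ne_two (eq_neg_iff_add_eq_zero.1 (hf.symm.trans (mem_plane.1 hx)))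

theorem exists_ne (hy : IsRot β d y) : ∃ x ∈ plane d y, x ≠ 0 := by
  have : Nontrivial (plane d y) := Finite.one_lt_card_iff_nontrivial.1 (by
    rw [hy.card]; exact Nat.one_lt_pow two_ne_zero (Fact.out : q.Prime).one_lt)
  obtain ⟨⟨x, hx⟩, h⟩ := _root_.exists_ne (0 : plane d y)
  exact ⟨x, hx, fun e => h (Subtype.ext e)⟩

theorem mem_span_of_orth (G : Geo (q := q) β d) (hy : IsRot β d y) {x w : V} (hx : x ∈ plane d y)
    (hx0 : x ≠ 0) (hw : w ∈ plane d y) (h : β x w = 0) : ∃ c : ZMod q, w = c • x := by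
  by_contra hcon
  push Not at hcon
  have hns : (⟨w, hw⟩ : plane d y) ∉
      Submodule.span (ZMod q) ({⟨x, hx⟩} : Set (plane d y)) := fun hmem => by
    obtain ⟨c, hc⟩ := Submodule.mem_span_singleton.1 hmem
    exact hcon c (congrArg Subtype.val hc).symm
  have htop := FittingHeight.Plane.span_pair_eq_top hy.card
    (x := (⟨x, hx⟩ : plane d y)) (v := ⟨w, hw⟩) (fun e => hx0 (congrArg Subtype.val e)) hns
  refine hx0 (hy.nondeg G hx fun t ht => ?_)
  obtain ⟨a, b, hab⟩ := Submodule.mem_span_pair.1 (htop.ge (Submodule.mem_top (x := ⟨t, ht⟩)))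
  have e : ∀ (c : ZMod q) (u : V), β (c • u) x = c.val • β u x := fun c u =>
    FittingHeight.Plane.map_smul_zmod (β.flip x) c u
  rw [← show a • x + b • w = t from congrArg Subtype.val hab, map_add, AddMonoidHom.add_apply,
    e, e, G.alt, G.skew_zero h, smul_zero, smul_zero, add_zero]

theorem no_eigen (G : Geo (q := q) β d) (hy : IsRot β d y) {x : V} (hx : x ∈ plane d y) {c : ZMod q}
    (h : y • x = c • x) : x = 0 := by
  by_contra hx0
  have key : ∀ n : ℕ, y ^ n • x = c ^ n • x := by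
    intro n
    induction n with
    | zero => rw [pow_zero, pow_zero, one_smul, one_smul]
    | succ n ih => rw [pow_succ', mul_smul, ih, smul_zmod, h, smul_smul, pow_succ]
  have h1 := key (q + 1)
  rw [G.card_eq, hy.pow, one_smul, ← G.card_eq, pow_succ, ZMod.pow_card] at h1
  have hc : c * c = 1 := smul_left_injective (ZMod q) hx0 (h1.symm.trans (one_smul _ x).symm)
  refine hx0 (hy.disjoint G hx ?_)
  have hev : 2 ^ (d - 1) = 2 * 2 ^ (d - 2) := by
    rw [← pow_succ']; congr 1; have := G.two_le; omega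
  show y ^ 2 ^ (d - 1) • x = x
  rw [key, hev, pow_mul, pow_two, hc, one_pow, one_smul]

theorem eq_or_fix (G : Geo (q := q) β d) (hy : IsRot β d y) {S : Submodule (ZMod q) V}
    (hS : Nat.card S = q ^ 2) (hyS : ∀ s ∈ S, y • s ∈ S) :
    S = plane d y ∨ ∀ s ∈ S, y • s = s := by
  by_cases hall : ∀ s ∈ S, y • s = s
  · exact Or.inr hall
  refine Or.inl ?_
  push Not at hall
  obtain ⟨s, hs, hne⟩ := hall
  have htS : y • s - s ∈ S := sub_mem (hyS s hs) hs
  have htT := hy.smul_sub_mem G s
  set t := y • s - s with ht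
  have ht0 : t ≠ 0 := sub_ne_zero.2 hne
  have hns : (⟨y • t, hy.smul_mem htT⟩ : plane d y) ∉
      Submodule.span (ZMod q) ({⟨t, htT⟩} : Set (plane d y)) := fun hmem => by
    obtain ⟨c, hc⟩ := Submodule.mem_span_singleton.1 hmem
    exact ht0 (hy.no_eigen G htT (congrArg Subtype.val hc).symm)
  have htop := FittingHeight.Plane.span_pair_eq_top hy.card (fun e => ht0 (congrArg Subtype.val e)) hns
  have hle : plane d y ≤ S := fun v hv => by
    obtain ⟨a, b, hab⟩ := Submodule.mem_span_pair.1 (htop.ge (Submodule.mem_top (x := ⟨v, hv⟩)))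
    rw [← show a • t + b • y • t = v from congrArg Subtype.val hab]
    exact add_mem (S.smul_mem _ htS) (S.smul_mem _ (hyS _ htS))
  refine (SetLike.coe_injective (Set.eq_of_subset_of_ncard_le hle (le_of_eq ?_))).symm
  show Set.ncard (S : Set V) = Set.ncard (plane d y : Set V)
  rw [← Nat.card_coe_set_eq, ← Nat.card_coe_set_eq]
  exact hS.trans hy.card.symm

theorem not_orth (G : Geo (q := q) β d) (hy : IsRot β d y) (hz : IsRot β d z)
    (h : ∀ s ∈ plane d y, ∀ s' ∈ plane d y, β s (z • s') = 0) : False := by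
  have hfix : ∀ s ∈ plane d y, z • s = s := by
    intro s hs
    obtain ⟨t, ht, f, hf, rfl⟩ := hz.decomp G s
    have h1 := h _ hs _ hs
    rw [smul_add, hz.fix f hf] at h1
    simp only [map_add, AddMonoidHom.add_apply, G.alt, add_zero, zero_add,
      hz.orth G ht hf, G.skew_zero (hz.orth G (hz.smul_mem ht) hf)] at h1
    have ht0 : t = 0 := by
      by_contra ht0
      obtain ⟨c, hc⟩ := hz.mem_span_of_orth G ht ht0 (hz.smul_mem ht) h1
      exact ht0 (hz.no_eigen G ht hc)
    rw [ht0, zero_add, hz.fix f hf]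
  obtain ⟨x, hx, hx0⟩ := hy.exists_ne
  exact hx0 (hy.nondeg G hx fun t ht => by
    have := h t ht x hx
    rwa [hfix x hx] at this)

theorem conj (hy : IsRot β d y) {g : (Module.End (ZMod q) V)ˣ} (hg : Plane.Iso β g) :
    IsRot β d (g * y * g⁻¹) := by
  have htau : tau d (g * y * g⁻¹) = g * tau d y * g⁻¹ := conj_pow ..
  have hmem : ∀ x, x ∈ plane d (g * y * g⁻¹) ↔ g⁻¹ • x ∈ plane d y := fun x => by
    rw [mem_plane, mem_plane, htau, mul_smul, mul_smul, smul_eq_iff_eq_inv_smul, smul_neg]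
  refine ⟨(hg.mul hy.iso).mul hg.inv, by rw [conj_pow, hy.pow, mul_one, mul_inv_cancel], ?_, ?_⟩
  · rw [← hy.card]
    exact Nat.card_congr ((MulAction.toPerm g⁻¹).subtypeEquiv fun x => hmem x)
  · intro f hf
    rw [htau, mul_smul, mul_smul, smul_eq_iff_eq_inv_smul] at hf
    rw [mul_smul, mul_smul, hy.fix _ hf, smul_inv_smul]

theorem mem_plane_conj (g : (Module.End (ZMod q) V)ˣ) {x : V} (hx : x ∈ plane d y) :
    g • x ∈ plane d (g * y * g⁻¹) := by
  rw [mem_plane, show tau d (g * y * g⁻¹) = g * tau d y * g⁻¹ from conj_pow .., mul_smul,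
    mul_smul, inv_smul_smul, mem_plane.1 hx, smul_neg]

theorem tau_eq_of_plane (G : Geo (q := q) β d) (hy : IsRot β d y) (hz : IsRot β d z)
    (h : plane d y = plane d z) : tau d y = tau d z := by
  refine Units.ext (LinearMap.ext fun v => ?_)
  show tau d y • v = tau d z • v
  obtain ⟨t, ht, f, hf, rfl⟩ := hy.decomp G v
  have hzf : tau d z • f = f := hz.fixed_of_orth G fun x hx => hy.orth G (h ▸ hx) hf
  rw [smul_add, smul_add, mem_plane.1 ht, hf, mem_plane.1 (h ▸ ht), hzf]

theorem tau_eq_of_le (G : Geo (q := q) β d) (hy : IsRot β d y) (hz : IsRot β d z)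
    (h : ∀ x ∈ plane d y, x ∈ plane d z) : tau d y = tau d z := by
  refine tau_eq_of_plane G hy hz (SetLike.coe_injective (Set.eq_of_subset_of_ncard_le h (le_of_eq ?_)))
  show Set.ncard (plane d z : Set V) = Set.ncard (plane d y : Set V)
  rw [← Nat.card_coe_set_eq, ← Nat.card_coe_set_eq]
  exact hz.card.trans hy.card.symm

/-- Orthogonal rotations commute. -/
theorem comm_of_orth (G : Geo (q := q) β d) (hy : IsRot β d y) (hz : IsRot β d z)
    (h : ∀ x ∈ plane d y, tau d z • x = x) (h' : ∀ x ∈ plane d z, tau d y • x = x) :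
    y * z = z * y := by
  refine Units.ext (LinearMap.ext fun v => ?_)
  show (y * z) • v = (z * y) • v
  obtain ⟨t, ht, f, hf, rfl⟩ := hy.decomp G v
  obtain ⟨s, hs, g, hg, rfl⟩ := hz.decomp G f
  have hys : y • s = s := hy.fix s (h' s hs)
  have hyg : y • g = g := by
    refine hy.fix g ?_
    rwa [smul_add, h' s hs, add_right_inj] at hf
  have hzt : z • t = t := hz.fix t (h t ht)
  have hzg : z • g = g := hz.fix g hg
  simp only [mul_smul, smul_add, hys, hyg, hzt, hzg, hz.fix _ (h _ (hy.smul_mem ht)),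
    hy.fix _ (h' _ (hz.smul_mem hs))]

/-- In a 2-group of isometries one rotation preserves the plane of another. -/
theorem smul_plane (G : Geo (q := q) β d) (H : Subgroup (Module.End (ZMod q) V)ˣ)
    (hH : IsPGroup 2 H) (hHi : ∀ g ∈ H, Plane.Iso β g) :
    ∀ {y z}, y ∈ H → z ∈ H → IsRot β d y → IsRot β d z → ∀ x ∈ plane d y, z • x ∈ plane d y := by
  induction hn : Nat.card H using Nat.strong_induction_on generalizing H with
  | _ n ih =>
  subst hn
  intro y z hyH hzH hy hz x hx
  haveI : Finite H := inferInstance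
  haveI : Group.IsNilpotent H := hH.isNilpotent
  rcases eq_top_or_exists_le_coatom (zpowers (⟨y, hyH⟩ : H)) with htop | ⟨M, hM, hle⟩
  · obtain ⟨i, hi⟩ := mem_zpowers_iff.1 (htop.ge (mem_top (⟨z, hzH⟩ : H)))
    have hzy : z = y ^ i := (congrArg Subtype.val hi).symm
    rw [hzy, mem_plane, smul_smul, ((Commute.refl y).pow_left _).zpow_right i |>.eq, ← smul_smul,
      mem_plane.1 hx, smul_neg]
  · haveI hMn : M.Normal := Subgroup.NormalizerCondition.normal_of_coatom _
      Group.normalizerCondition_of_isNilpotent hM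
    set M' := M.map H.subtype with hM'
    have hlt : Nat.card M' < Nat.card H := by
      rw [hM', card_map_of_injective H.subtype_injective]
      refine lt_of_le_of_ne (card_le_card_group M) fun h => hM.1 (eq_top_of_card_eq M h)
    have hy' : y ∈ M' := ⟨⟨y, hyH⟩, hle (mem_zpowers _), rfl⟩
    have hy'' : z * y * z⁻¹ ∈ M' :=
      ⟨⟨z, hzH⟩ * ⟨y, hyH⟩ * ⟨z, hzH⟩⁻¹, hMn.conj_mem _ (hle (mem_zpowers _)) _, rfl⟩
    have hMle : M' ≤ H := map_subtype_le M
    have hy2 := hy.conj hz.iso
    have hpres := fun s hs => ih _ hlt M' (hH.to_le hMle) (fun g hg => hHi g (hMle hg)) rfl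
      hy' hy'' hy hy2 s hs
    rcases eq_or_fix G hy2 hy.card hpres with h | h
    · rw [h]
      exact mem_plane_conj z hx
    · exfalso
      refine not_orth G hy hz fun s hs s' hs' => ?_
      refine G.skew_zero (hy2.orth G (mem_plane_conj z hs') ?_)
      show (z * y * z⁻¹) ^ 2 ^ (d - 1) • s = s
      have : ∀ n : ℕ, (z * y * z⁻¹) ^ n • s = s := by
        intro n
        induction n with
        | zero => rw [pow_zero, one_smul]
        | succ n ihn => rw [pow_succ, mul_smul, h s hs, ihn]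
      exact this _

/-- In a 2-group of isometries the planes of two rotations are equal or orthogonal. -/
theorem eq_or_orth (G : Geo (q := q) β d) {H : Subgroup (Module.End (ZMod q) V)ˣ}
    (hH : IsPGroup 2 H) (hHi : ∀ g ∈ H, Plane.Iso β g) (hyH : y ∈ H) (hzH : z ∈ H)
    (hy : IsRot β d y) (hz : IsRot β d z) :
    tau d y = tau d z ∨
      (∀ x ∈ plane d y, tau d z • x = x) ∧ ∀ x ∈ plane d z, tau d y • x = x := by
  rcases eq_or_fix G hz hy.card (smul_plane G H hH hHi hyH hzH hy hz) with h | h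
  · exact Or.inl (tau_eq_of_plane G hy hz h)
  · have hfix : ∀ x ∈ plane d y, tau d z • x = x := fun x hx => by
      have : ∀ n : ℕ, z ^ n • x = x := by
        intro n
        induction n with
        | zero => rw [pow_zero, one_smul]
        | succ n ihn => rw [pow_succ, mul_smul, h x hx, ihn]
      exact this _
    exact Or.inr ⟨hfix, fun x hx => hy.fixed_of_orth G fun s hs =>
      G.skew_zero (hz.orth G hx (hfix s hs))⟩

/-- An isometry of two-power order fixing a non-zero vector of an invariant plane fixes the plane. -/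
theorem fix_plane (G : Geo (q := q) β d) (hy : IsRot β d y) {g : (Module.End (ZMod q) V)ˣ}
    (hg : Plane.Iso β g) (hgT : ∀ x ∈ plane d y, g • x ∈ plane d y) {k : ℕ} (hk : g ^ 2 ^ k = 1)
    {x : V} (hx : x ∈ plane d y) (hx0 : x ≠ 0) (hgx : g • x = x) {w : V} (hw : w ∈ plane d y) :
    g • w = w := by
  have horth : β x (g • w - w) = 0 := by
    rw [map_sub, sub_eq_zero]
    nth_rw 1 [← hgx]
    exact hg x w
  obtain ⟨c, hc⟩ := hy.mem_span_of_orth G hx hx0 (sub_mem (hgT w hw) hw) horth
  rw [sub_eq_iff_eq_add'] at hc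
  have key : ∀ n : ℕ, g ^ n • w = w + n • c • x := by
    intro n
    induction n with
    | zero => rw [pow_zero, one_smul, zero_smul, add_zero]
    | succ n ih =>
      rw [pow_succ', mul_smul, ih, smul_add, hc, smul_comm g n, smul_zmod, hgx, succ_nsmul',
        add_assoc]
  have h0 : (2 ^ k : ℕ) • c • x = 0 := by
    have := key (2 ^ k)
    rwa [hk, one_smul, left_eq_add] at this
  have hcx : c • x = 0 := by
    rw [← Nat.cast_smul_eq_nsmul (ZMod q)] at h0
    refine (smul_eq_zero.1 h0).resolve_left ?_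
    rw [Nat.cast_pow]
    exact pow_ne_zero _ (by exact_mod_cast FittingHeight.Plane.two_ne_zero' G.ne_two)
  rw [hc, hcx, add_zero]

/-- The normaliser of the plane in a 2-group fixes or inverts the rotation. -/
theorem conj_eq_or_inv (G : Geo (q := q) β d) {H : Subgroup (Module.End (ZMod q) V)ˣ}
    (hH : IsPGroup 2 H) (hHi : ∀ g ∈ H, Plane.Iso β g) (hy : IsRot β d y) (hyH : y ∈ H)
    {v : (Module.End (ZMod q) V)ˣ} (hvH : v ∈ H) (hv : v * tau d y = tau d y * v) :
    v * y * v⁻¹ = y ∨ v * y * v⁻¹ = y⁻¹ := by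
  classical
  set T := plane d y with hT
  set H' := H ⊓ centralizer ({tau d y} : Set (Module.End (ZMod q) V)ˣ) with hH'
  have hmaps : ∀ g ∈ H', ∀ x ∈ T, g • x ∈ T := fun g hg x hx => by
    rw [mem_plane, smul_smul, ← mem_centralizer_singleton_iff.1 hg.2, ← smul_smul,
      mem_plane.1 hx, smul_neg]
  let res : H' →* Equiv.Perm T :=
    { toFun := fun g => (MulAction.toPerm (g : (Module.End (ZMod q) V)ˣ)).subtypeEquiv fun x =>
        ⟨fun hx => hmaps g g.2 x hx, fun hx => by
          have := hmaps _ (inv_mem g.2) _ hx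
          rwa [MulAction.toPerm_apply, inv_smul_smul] at this⟩
      map_one' := Equiv.ext fun x => Subtype.ext (by
        show (1 : (Module.End (ZMod q) V)ˣ) • (x : V) = _
        exact one_smul _ _)
      map_mul' := fun a b => Equiv.ext fun x => Subtype.ext
        (mul_smul (a : (Module.End (ZMod q) V)ˣ) (b : (Module.End (ZMod q) V)ˣ) (x : V)) }
  have hresv : ∀ (g : H') (x : T), ((res g x : T) : V) = (g : (Module.End (ZMod q) V)ˣ) • (x : V) :=
    fun g x => rfl
  have hres1 : ∀ g : H', res g = 1 ↔ ∀ x ∈ T, (g : (Module.End (ZMod q) V)ˣ) • x = x := fun g =>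
    ⟨fun h x hx => by
      have := congrArg (fun σ : Equiv.Perm T => ((σ ⟨x, hx⟩ : T) : V)) h
      simpa [hresv] using this,
    fun h => Equiv.ext fun x => Subtype.ext (h x x.2)⟩
  have hH'2 : IsPGroup 2 H' := hH.to_le inf_le_left
  have hrange : IsPGroup 2 res.range :=
    hH'2.of_surjective res.rangeRestrict res.rangeRestrict_surjective
  obtain ⟨k, hk⟩ := IsPGroup.iff_card.1 hrange
  have hcardT : Nat.card T = q ^ 2 := hy.card
  -- the image acts freely outside `0`
  letI act : MulAction res.range T := MulAction.compHom T res.range.subtype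
  have horb := HallHigman.card_orbits_free (A := res.range) (X := T) hk 0
    (fun a => by
      obtain ⟨g, hg⟩ := a.2
      show (a : Equiv.Perm T) 0 = 0
      rw [← hg]
      exact Subtype.ext (smul_zero (g : (Module.End (ZMod q) V)ˣ)))
    (fun x hx a ha => by
      obtain ⟨g, hg⟩ := a.2
      refine Subtype.ext ?_
      show (a : Equiv.Perm T) = 1
      rw [← hg, hres1]
      have hgx : (g : (Module.End (ZMod q) V)ˣ) • (x : V) = x := by
        rw [← hresv, hg]; exact congrArg Subtype.val ha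
      obtain ⟨m, hm⟩ := hH'2 g
      exact fun w hw => fix_plane G hy (hHi _ g.2.1) (hmaps g g.2) (congrArg Subtype.val hm) x.2
        (fun e => hx (Subtype.ext e)) hgx hw)
  rw [hcardT] at horb
  set N := Nat.card (MulAction.orbitRel.Quotient res.range T)
  have hkd : k ≤ d + 1 := by
    have hN : 1 ≤ N := by
      haveI : Nonempty (MulAction.orbitRel.Quotient res.range T) := ⟨Quotient.mk'' 0⟩
      exact Nat.card_pos
    obtain ⟨N', hN'⟩ : ∃ N', N = N' + 1 := ⟨N - 1, by omega⟩
    have hdvd : 2 ^ k ∣ q ^ 2 - 1 := ⟨N', by rw [hN', Nat.mul_succ] at horb; omega⟩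
    obtain ⟨m, hm⟩ : ∃ m, 2 ^ (d - 1) = m + 1 := ⟨2 ^ (d - 1) - 1,
      (Nat.sub_add_cancel (Nat.one_le_two_pow)).symm⟩
    have hm2 : Even (m + 1) := by
      rw [← hm, Nat.even_pow]
      exact ⟨even_two, by have := G.two_le; omega⟩
    have hq : q = 2 * m + 1 := by
      have := G.pow_sub_one_succ
      have := G.card_eq
      omega
    have hfac : q ^ 2 - 1 = 2 ^ (d + 1) * m := by
      rw [show 2 ^ (d + 1) = 4 * (m + 1) by
        rw [← hm, show d + 1 = 2 + (d - 1) by have := G.two_le; omega, pow_add]; norm_num]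
      rw [hq, show (2 * m + 1) ^ 2 = 4 * (m + 1) * m + 1 by ring, Nat.add_sub_cancel]
    rw [hfac] at hdvd
    have hco : (2 ^ k).Coprime m := (Nat.coprime_two_left.2 (by
      rcases hm2 with ⟨u, hu⟩; exact ⟨u - 1, by omega⟩)).pow_left k
    exact (Nat.pow_dvd_pow_iff_le_right (by norm_num : 1 < 2)).1 (hco.dvd_of_dvd_mul_right hdvd)
  have hyH' : y ∈ H' := ⟨hyH, mem_centralizer_singleton_iff.2 (Commute.self_pow y _).eq⟩
  have hvH' : v ∈ H' := ⟨hvH, mem_centralizer_singleton_iff.2 hv⟩
  set yb : res.range := res.rangeRestrict ⟨y, hyH'⟩ with hyb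
  have hord : orderOf yb = 2 ^ d := by
    obtain ⟨m, hm⟩ : ∃ m, d = m + 1 := ⟨d - 1, by have := G.two_le; omega⟩
    rw [hm]
    refine orderOf_eq_prime_pow ?_ ?_
    · rw [hyb, ← map_pow]
      intro h
      obtain ⟨x, hx, hx0⟩ := hy.exists_ne
      refine hx0 (hy.disjoint G hx ?_)
      have h' := (hres1 _).1 (congrArg Subtype.val h) x hx
      rw [show tau d y = y ^ 2 ^ m by rw [tau, hm, Nat.add_sub_cancel]]
      simpa using h'
    · rw [hyb, ← map_pow, ← hm, show ((⟨y, hyH'⟩ : H') ^ 2 ^ d) = 1 from Subtype.ext hy.pow,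
        map_one]
  have hidx : (zpowers yb).index ≤ 2 := by
    have h := card_mul_index (zpowers yb)
    rw [Nat.card_zpowers, hord, hk] at h
    have : 2 ^ d * (zpowers yb).index ≤ 2 ^ d * 2 := by
      rw [h, ← pow_succ]; exact Nat.pow_le_pow_right (by norm_num) hkd
    exact Nat.le_of_mul_le_mul_left this (pow_pos (by norm_num) d)
  have hnorm : (zpowers yb).Normal := by
    have h0 : (zpowers yb).index ≠ 0 := index_ne_zero_of_finite
    rcases (show (zpowers yb).index = 1 ∨ (zpowers yb).index = 2 by omega) with h | h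
    · rw [index_eq_one] at h; rw [h]; infer_instance
    · exact normal_of_index_eq_two h
  obtain ⟨i, hi⟩ := mem_powers_iff_mem_zpowers.2
    (hnorm.conj_mem yb (mem_zpowers _) (res.rangeRestrict ⟨v, hvH'⟩))
  have hT' : ∀ x ∈ T, y ^ i • x = (v * y * v⁻¹) • x := by
    intro x hx
    have h1 : res ((⟨y, hyH'⟩ : H') ^ i) = res (⟨v, hvH'⟩ * ⟨y, hyH'⟩ * ⟨v, hvH'⟩⁻¹) := by
      rw [map_pow, map_mul, map_mul, map_inv]
      exact congrArg Subtype.val hi
    have h2 := congrArg (fun σ : Equiv.Perm T => ((σ ⟨x, hx⟩ : T) : V)) h1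
    exact h2
  have hvinv : v⁻¹ * tau d y = tau d y * v⁻¹ := by
    rw [inv_mul_eq_iff_eq_mul, ← mul_assoc, hv, mul_inv_cancel_right]
  have hF : ∀ f : V, tau d y • f = f → (v * y * v⁻¹) • f = f := fun f hf => by
    have h0 : tau d y • v⁻¹ • f = v⁻¹ • f := by rw [smul_smul, ← hvinv, mul_smul, hf]
    rw [mul_smul, mul_smul, hy.fix _ h0, smul_inv_smul]
  have hFy : ∀ f : V, tau d y • f = f → ∀ n : ℕ, y ^ n • f = f := fun f hf n => by
    induction n with
    | zero => rw [pow_zero, one_smul]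
    | succ n ih => rw [pow_succ, mul_smul, hy.fix f hf, ih]
  have hext : ∀ a b : (Module.End (ZMod q) V)ˣ, (∀ x ∈ T, a • x = b • x) →
      (∀ f, tau d y • f = f → a • f = b • f) → a = b := fun a b h1 h2 => by
    refine Units.ext (LinearMap.ext fun w => ?_)
    show a • w = b • w
    obtain ⟨t, ht, f, hf, rfl⟩ := hy.decomp G w
    rw [smul_add, smul_add, h1 t ht, h2 f hf]
  set b := y ^ i with hb
  have hyi : v * y * v⁻¹ = b := hext _ _ (fun x hx => (hT' x hx).symm) fun f hf => by
    rw [hF f hf, hFy f hf]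
  -- the trace
  have hyinvT : ∀ x ∈ T, y⁻¹ • x ∈ T := fun x hx => hmaps _ (inv_mem hyH') x hx
  let a : Module.End (ZMod q) T :=
    ((y : Module.End (ZMod q) V) + ((y⁻¹ : (Module.End (ZMod q) V)ˣ) : Module.End (ZMod q) V)).restrict
      fun x hx => add_mem (hy.smul_mem hx) (hyinvT x hx)
  obtain ⟨c, hc⟩ := FittingHeight.Plane.scalar_of_eigen (V := T) hcardT a fun x => by
    by_cases hx0 : x = 0
    · rw [hx0, map_zero]; exact zero_mem _
    have horth : β (x : V) (y • (x : V) + y⁻¹ • (x : V)) = 0 := by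
      rw [map_add, show β (x : V) (y⁻¹ • (x : V)) = β (y • (x : V)) (y • y⁻¹ • (x : V)) from
        (hy.iso _ _).symm, smul_inv_smul, G.skew (x : V), add_neg_cancel]
    obtain ⟨c, hc⟩ := hy.mem_span_of_orth G x.2 (fun e => hx0 (Subtype.ext e))
      (add_mem (hy.smul_mem x.2) (hyinvT x x.2)) horth
    exact Submodule.mem_span_singleton.2 ⟨c, Subtype.ext hc.symm⟩
  have htr : ∀ x ∈ T, y • x + y⁻¹ • x = c • x := fun x hx =>
    congrArg Subtype.val (LinearMap.congr_fun hc ⟨x, hx⟩)
  have htrb : ∀ x ∈ T, b • x + b⁻¹ • x = c • x := fun x hx => by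
    rw [← hyi, show (v * y * v⁻¹)⁻¹ = v * y⁻¹ * v⁻¹ by group, mul_smul, mul_smul, mul_smul, mul_smul,
      ← smul_add, htr _ (hmaps _ (inv_mem hvH') x hx), smul_zmod, smul_inv_smul]
  have hbH : b ∈ H' := pow_mem hyH' i
  have hcby : b * y = y * b := (Commute.pow_self y i).eq
  by_cases hby : ∀ x ∈ T, b • x = y • x
  · exact Or.inl (hyi.trans (hext _ _ hby fun f hf => by rw [hFy f hf, hy.fix f hf]))
  · refine Or.inr ?_
    rw [hyi, eq_inv_iff_mul_eq_one]
    refine hext _ _ (fun x hx => ?_) (fun f hf => by rw [mul_smul, hy.fix f hf, hFy f hf, one_smul])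
    rw [one_smul]
    set w := x - b⁻¹ • y⁻¹ • x with hw
    have hwT : w ∈ T := sub_mem hx (hmaps _ (inv_mem hbH) _ (hyinvT x hx))
    have hfix : (y⁻¹ * b) • w = w := by
      rw [mul_smul, inv_smul_eq_iff]
      have e1 : b • w = b • x - y⁻¹ • x := by rw [hw, smul_sub, smul_inv_smul]
      have e2 : y • w = y • x - b⁻¹ • x := by
        rw [hw, smul_sub, smul_smul y, (show y * b⁻¹ = b⁻¹ * y from
          ((show Commute y b from hcby.symm).inv_right).eq), mul_smul, smul_inv_smul]
      rw [e1, e2, sub_eq_sub_iff_add_eq_add, htrb x hx, ← htr x hx]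
    have hw0 : w = 0 := by
      by_contra hw0
      obtain ⟨m, hm⟩ := hH'2 ⟨y⁻¹ * b, mul_mem (inv_mem hyH') hbH⟩
      refine hby fun x' hx' => ?_
      have := fix_plane G hy (hHi _ (mul_mem (inv_mem hyH) (pow_mem hyH i)))
        (hmaps _ (mul_mem (inv_mem hyH') hbH)) (congrArg Subtype.val hm) hwT hw0 hfix hx'
      rwa [mul_smul, inv_smul_eq_iff] at this
    rw [hw, sub_eq_zero, smul_smul, ← mul_inv_rev, eq_inv_smul_iff] at hw0
    rw [hcby]; exact hw0

end IsRot

end Cfsg.Agent.GrossTwoLength
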