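import Cfsg.Agent.Lib.HallHigman.Twisted

/-!
# The index bound for a group abelian up to scalars, orbits given by representatives
-/

set_option autoImplicit false

namespace Cfsg.Agent.GrossTwoLength

open Finset
open HallHigman
open scoped commutatorElement

variable {K W Q : Type*} [Field K] [AddCommGroup W] [Module K W] [FiniteDimensional K W]
  [Group Q] [Finite Q] {r : ℕ}

/-- `|Q : R| ≤ c · #Ω` when `(dim W) ^ 2 ≤ c · dim C(S)` and `Ω` meets every `σ`-orbit on `Q/R`. -/
theorem index_le_of_orbits (hr : 0 < r) (hQK : (Nat.card Q : K) ≠ 0) [Nontrivial W]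
    (π : Q →* Module.End K W)
    (R : Subgroup Q) [R.Normal] (lam : R →* K) (hlam : ∀ z : R, π z = lam z • 1)
    (hcen : ∀ a b : Q, ⁅a, b⁆ ∈ Subgroup.center Q) (hcomR : ∀ a b : Q, ⁅a, b⁆ ∈ R)
    (hrad : ∀ g, (∀ h, lam ⟨⁅h, g⁆, hcomR h g⟩ = 1) → g ∈ R)
    (σ : MulAut Q) (hσR : R.map σ.toMonoidHom = R)
    (hσl : ∀ (z : R) (h : σ z ∈ R), lam ⟨σ z, h⟩ = lam z)
    (S : Module.End K W) (hS : S ^ r = 1) (hSπ : ∀ g, S * π g = π (σ g) * S)
    {c : ℕ} (hmain : Module.finrank K W ^ 2 ≤ c * Module.finrank K (commutant S))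
    {Ω : Type*} [Fintype Ω] (rep : Ω → Q)
    (hcover : ∀ g, ∃ (ω : Ω) (i : ℕ), ((σ ^ i) (rep ω))⁻¹ * g ∈ R) :
    R.index ≤ c * Nat.card Ω := by
  classical
  have := Fintype.ofFinite Q
  have hidx : Nat.card (Q ⧸ R) = R.index := rfl
  -- the characters
  let χ : Q → Q → K := fun g h => lam ⟨⁅h, g⁆, hcomR h g⟩
  have hχmul : ∀ g h k, χ g (h * k) = χ g h * χ g k := fun g h k => by
    simp only [χ, ← map_mul]
    congr 1
    exact Subtype.ext (Agent.PGroup.commutator_mul_left (hcen k g))
  have hχmul' : ∀ g g' h, χ (g * g') h = χ g h * χ g' h := fun g g' h => by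
    simp only [χ, ← map_mul]
    congr 1
    exact Subtype.ext (Agent.PGroup.commutator_mul_right (hcen h g'))
  have hχ1 : ∀ g, χ g 1 = 1 := fun g => by
    simp only [χ, ← map_one lam]; congr 1; exact Subtype.ext (commutatorElement_one_left g)
  have hχne : ∀ g h, χ g h ≠ 0 := fun g h e => by
    have : χ g (h * h⁻¹) = 0 := by rw [hχmul, e, zero_mul]
    rw [mul_inv_cancel, hχ1] at this
    exact one_ne_zero this
  have hscal : ∀ z ∈ R, ∀ h : Q, π z * π h = π h * π z := fun z hz h => by
    rw [show π z = lam ⟨z, hz⟩ • 1 from hlam ⟨z, hz⟩, smul_mul_assoc, mul_smul_comm, one_mul, mul_one]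
  have hone : ∀ (c : K), c • (1 : Module.End K W) = 1 → c = 1 := fun c hc =>
    smul_left_injective K (one_ne_zero (α := Module.End K W)) (hc.trans (one_smul K _).symm)
  have hχz : ∀ z ∈ R, ∀ h, χ z h = 1 := fun z hz h => by
    refine hone _ ((hlam ⟨⁅h, z⁆, hcomR h z⟩).symm.trans ?_)
    show π ⁅h, z⁆ = 1
    rw [commutatorElement_def, map_mul, map_mul, map_mul, ← hscal z hz h, mul_assoc (π z) (π h),
      ← map_mul π h, mul_inv_cancel, map_one, mul_one, ← map_mul, mul_inv_cancel, map_one]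
  have hχz' : ∀ z ∈ R, ∀ g, χ g z = 1 := fun z hz g => by
    refine hone _ ((hlam ⟨⁅z, g⁆, hcomR z g⟩).symm.trans ?_)
    show π ⁅z, g⁆ = 1
    rw [commutatorElement_def, map_mul, map_mul, map_mul, hscal z hz g, mul_assoc (π g) (π z),
      ← map_mul π z, mul_inv_cancel, map_one, mul_one, ← map_mul, mul_inv_cancel, map_one]
  have hσmem : ∀ z ∈ R, σ z ∈ R := fun z hz => hσR ▸ Subgroup.mem_map_of_mem σ.toMonoidHom hz
  have hχσ : ∀ g h, χ (σ g) (σ h) = χ g h := fun g h => by
    simp only [χ]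
    rw [← hσl ⟨⁅h, g⁆, hcomR h g⟩ (hσmem _ (hcomR h g))]
    congr 1
    exact Subtype.ext (map_commutatorElement σ h g).symm
  have hχtriv : ∀ g, (∀ h, χ g h = 1) → g ∈ R := fun g hg => hrad g hg
  have hχswap : ∀ g h, χ g h * χ h g = 1 := fun g h => by
    simp only [χ]
    rw [← map_mul, ← map_one lam]
    congr 1
    exact Subtype.ext (show ⁅h, g⁆ * ⁅g, h⁆ = 1 by rw [← commutatorElement_inv g h, inv_mul_cancel])
  have hχtriv' : ∀ h, (∀ g, χ g h = 1) → h ∈ R := fun h hh => hrad h fun g => by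
    have := hχswap g h
    rwa [hh g, one_mul] at this
  have hπu : ∀ g, π g * π g⁻¹ = 1 := fun g => by rw [← map_mul, mul_inv_cancel, map_one]
  have hπu' : ∀ g, π g⁻¹ * π g = 1 := fun g => by rw [← map_mul, inv_mul_cancel, map_one]
  have hconj : ∀ g h, π h * π g * π h⁻¹ = χ g h • π g := fun g h => by
    have := hlam ⟨⁅h, g⁆, hcomR h g⟩
    rw [← map_mul, ← map_mul, show h * g * h⁻¹ = ⁅h, g⁆ * g by group, map_mul]
    simp only [χ]
    rw [show π ⁅h, g⁆ = lam ⟨⁅h, g⁆, hcomR h g⟩ • 1 from this, smul_mul_assoc, one_mul]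
  -- the centralizer of `π Q` and the projections
  let B : Submodule K (Module.End K W) :=
    { carrier := {f | ∀ k, π k * f * π k⁻¹ = f}
      zero_mem' := fun k => by simp
      add_mem' := fun {a b} ha hb k => by rw [mul_add, add_mul, ha, hb]
      smul_mem' := fun c a ha k => by rw [mul_smul_comm, smul_mul_assoc, ha] }
  let P : Q → Module.End K W →ₗ[K] Module.End K W := fun g =>
    ∑ h : Q, (χ g h)⁻¹ • ((LinearMap.mulLeft K (π h)) ∘ₗ (LinearMap.mulRight K (π h⁻¹)))
  have hP : ∀ g f, P g f = ∑ h : Q, (χ g h)⁻¹ • (π h * f * π h⁻¹) := fun g f => by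
    simp only [P, LinearMap.sum_apply, LinearMap.smul_apply, LinearMap.coe_comp, Function.comp_apply,
      LinearMap.mulLeft_apply, LinearMap.mulRight_apply, mul_assoc]
  have hPconj : ∀ g k f, π k * P g f * π k⁻¹ = χ g k • P g f := by
    intro g k f
    rw [hP, Finset.mul_sum, Finset.sum_mul, Finset.smul_sum]
    conv_rhs => rw [← Equiv.sum_comp (Equiv.mulLeft k)]
    refine Finset.sum_congr rfl fun h _ => ?_
    rw [mul_smul_comm, smul_mul_assoc, Equiv.coe_mulLeft, smul_smul, hχmul, mul_inv, ← mul_assoc (χ g k),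
      mul_inv_cancel₀ (hχne g k), one_mul, map_mul, mul_inv_rev, map_mul]
    simp only [mul_assoc]
  have hPB : ∀ g f, π g⁻¹ * P g f ∈ B := by
    intro g f k
    have h1 : χ g⁻¹ k * χ g k = 1 := by rw [← hχmul', inv_mul_cancel]; exact hχz 1 (one_mem _) k
    calc π k * (π g⁻¹ * P g f) * π k⁻¹ = (π k * π g⁻¹ * π k⁻¹) * (π k * P g f * π k⁻¹) := by
          simp only [mul_assoc]
          rw [← mul_assoc (π k⁻¹) (π k), hπu', one_mul]
      _ = (χ g⁻¹ k * χ g k) • (π g⁻¹ * P g f) := by
          rw [hconj, hPconj, smul_mul_smul_comm]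
      _ = _ := by rw [h1, one_smul]
  have hPz : ∀ g, ∀ z ∈ R, P (g * z) = P g := fun g z hz => by
    refine LinearMap.ext fun f => ?_
    rw [hP, hP]
    refine Finset.sum_congr rfl fun h _ => ?_
    rw [hχmul', hχz z hz, mul_one]
  have hPσ : ∀ g, ∀ f ∈ commutant S, P (σ g) f * S = S * P g f := by
    intro g f hf
    rw [hP, hP, Finset.sum_mul, Finset.mul_sum]
    conv_lhs => rw [← Equiv.sum_comp σ.toEquiv]
    refine Finset.sum_congr rfl fun h _ => ?_
    show (χ (σ g) (σ h))⁻¹ • (π (σ h) * f * π (σ h)⁻¹) * S = S * ((χ g h)⁻¹ • (π h * f * π h⁻¹))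
    rw [hχσ, smul_mul_assoc, mul_smul_comm, ← map_inv σ]
    congr 1
    rw [mul_assoc, ← hSπ, ← mul_assoc, mul_assoc (π (σ h)), ← mem_commutant.1 hf, ← mul_assoc, ← hSπ]
    simp only [mul_assoc]
  have hsumhom : ∀ f : Q →* K, (∑ h : Q, f h) = if f = 1 then (Fintype.card Q : K) else 0 :=
    fun f => by convert sum_hom_units f using 1; split_ifs <;> simp
  have hsumP : ∀ f, ∑ g : Q, P g f = ((Fintype.card Q : K) * (Nat.card R : K)) • f := by
    intro f
    simp only [hP]
    rw [Finset.sum_comm]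
    have key : ∀ h : Q, ∑ g : Q, (χ g h)⁻¹ = if h ∈ R then (Fintype.card Q : K) else 0 := by
      intro h
      let φ : Q →* K :=
        { toFun := fun g => (χ g h)⁻¹
          map_one' := by rw [hχz 1 (one_mem _) h, inv_one]
          map_mul' := fun a b => by rw [hχmul', mul_inv] }
      have h1 := hsumhom φ
      rw [show (∑ g : Q, (χ g h)⁻¹) = ∑ g : Q, φ g from rfl, h1]
      refine if_congr ⟨fun e => hχtriv' h fun g => inv_eq_one.1 (DFunLike.congr_fun e g), fun hz =>
        MonoidHom.ext fun g => by simp [φ, hχz' h hz g]⟩ rfl rfl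
    simp only [← Finset.sum_smul, key, ite_smul, zero_smul]
    rw [← Finset.sum_filter]
    have hz : ∀ h ∈ Finset.univ.filter (· ∈ R), π h * f * π h⁻¹ = f := by
      intro h hh
      have hh' : h ∈ R := (Finset.mem_filter.1 hh).2
      have e1 := hlam ⟨h, hh'⟩
      rw [show π h = lam ⟨h, hh'⟩ • 1 from e1, smul_mul_assoc, one_mul]
      have e2 : π h * π h⁻¹ = 1 := hπu h
      rw [show π h = lam ⟨h, hh'⟩ • 1 from e1, smul_mul_assoc, one_mul] at e2
      rw [smul_mul_assoc, ← mul_smul_comm, e2, mul_one]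
    rw [Finset.sum_congr rfl fun h hh => by rw [hz h hh], Finset.sum_const, ← Nat.cast_smul_eq_nsmul K, smul_smul]
    congr 1
    rw [mul_comm]
    congr 2
    rw [Nat.card_eq_fintype_card, Fintype.card_subtype]
  have hcQ : (Fintype.card Q : K) ≠ 0 := by rwa [← Nat.card_eq_fintype_card]
  have hcR : (Nat.card R : K) ≠ 0 := by
    obtain ⟨c, hc⟩ := Subgroup.card_subgroup_dvd_card R
    intro h0
    exact hQK (by rw [hc, Nat.cast_mul, h0, zero_mul])
  -- lower bound: `dim End W ≥ |Q/R| dim B`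
  have := Fintype.ofFinite (Q ⧸ R)
  let T : ((Q ⧸ R) → B) →ₗ[K] Module.End K W :=
    ∑ x : Q ⧸ R, (LinearMap.mulLeft K (π x.out)) ∘ₗ B.subtype ∘ₗ LinearMap.proj x
  have hT : ∀ b, T b = ∑ x : Q ⧸ R, π x.out * (b x : Module.End K W) := fun b => by simp [T]
  have hTinj : Function.Injective T := by
    refine (injective_iff_map_eq_zero T).2 fun b hb => funext fun y => ?_
    have h1 : P y.out (T b) = 0 := by rw [hb, map_zero]
    rw [hT, map_sum, Finset.sum_eq_single y] at h1
    · have h2 : P y.out (π y.out * (b y : Module.End K W)) = (Fintype.card Q : K) • (π y.out * (b y : Module.End K W)) := by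
        rw [hP]
        have : ∀ h : Q, π h * (π y.out * (b y : Module.End K W)) * π h⁻¹ = χ y.out h • (π y.out * (b y : Module.End K W)) := by
          intro h
          rw [← smul_mul_assoc, ← hconj]
          conv_rhs => rw [← (b y).2 h]
          simp only [mul_assoc]
          rw [← mul_assoc (π h⁻¹) (π h), hπu', one_mul]
        simp only [this, smul_smul, inv_mul_cancel₀ (hχne _ _), one_smul, Finset.sum_const, Finset.card_univ,
          Nat.cast_smul_eq_nsmul]
      rw [h2, smul_eq_zero, or_iff_right hcQ] at h1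
      refine Subtype.ext ?_
      rw [← one_mul (b y : Module.End K W), ← hπu' y.out, mul_assoc, h1, mul_zero]
      rfl
    · intro x _ hxy
      rw [hP]
      have : ∀ h : Q, π h * (π x.out * (b x : Module.End K W)) * π h⁻¹ = χ x.out h • (π x.out * (b x : Module.End K W)) := by
        intro h
        rw [← smul_mul_assoc, ← hconj]
        conv_rhs => rw [← (b x).2 h]
        simp only [mul_assoc]
        rw [← mul_assoc (π h⁻¹) (π h), hπu', one_mul]
      simp only [this, smul_smul, ← Finset.sum_smul]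
      let φ : Q →* K :=
        { toFun := fun h => (χ y.out h)⁻¹ * χ x.out h
          map_one' := by rw [hχ1, hχ1, inv_one, one_mul]
          map_mul' := fun a b => by rw [hχmul, hχmul, mul_inv]; ring }
      have h1' := hsumhom φ
      rw [show (∑ h : Q, (χ y.out h)⁻¹ * χ x.out h) = ∑ h : Q, φ h from rfl, h1', if_neg, zero_smul]
      intro e
      apply hxy
      rw [← QuotientGroup.out_eq' x, ← QuotientGroup.out_eq' y]
      refine QuotientGroup.eq.2 (hχtriv _ fun h => ?_)
      have e1 : (χ y.out h)⁻¹ * χ x.out h = 1 := DFunLike.congr_fun e h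
      have e2 : χ x.out h = χ y.out h := ((inv_mul_eq_one₀ (hχne _ _)).1 e1).symm
      rw [hχmul', ← e2]
      rw [← hχmul', inv_mul_cancel]
      exact hχz 1 (one_mem _) h
    · simp
  have hlow := LinearMap.finrank_le_finrank_of_injective hTinj
  rw [Module.finrank_pi_fintype, Finset.sum_const, Finset.card_univ, ← Nat.card_eq_fintype_card, hidx,
    smul_eq_mul, Module.finrank_linearMap, ← pow_two] at hlow
  let Φ : commutant S →ₗ[K] (Ω → B) :=
    LinearMap.pi fun ω => ((LinearMap.mulLeft K (π (rep ω)⁻¹)) ∘ₗ (P (rep ω)) ∘ₗ (commutant S).subtype).codRestrict B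
      (fun f => hPB _ _)
  have hΦinj : Function.Injective Φ := by
    refine (injective_iff_map_eq_zero Φ).2 fun f hf => Subtype.ext ?_
    have hrep : ∀ ω, P (rep ω) (f : Module.End K W) = 0 := fun ω => by
      have h1 : π (rep ω)⁻¹ * P (rep ω) (f : Module.End K W) = 0 := congrArg Subtype.val (congrFun hf ω)
      rw [← one_mul (P _ _), ← hπu (rep ω), mul_assoc, h1, mul_zero]
    let A : Subgroup (MulAut Q) :=
      { carrier := {τ | ∀ g, P (τ g) (f : Module.End K W) = 0 ↔ P g (f : Module.End K W) = 0}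
        one_mem' := fun g => Iff.rfl
        mul_mem' := fun {a b} ha hb g => (ha (b g)).trans (hb g)
        inv_mem' := fun {a} ha g => by
          have := ha (a⁻¹ g)
          rwa [MulAut.inv_def, MulEquiv.apply_symm_apply, iff_comm] at this }
    have hS' : S * S ^ (r - 1) = 1 ∧ S ^ (r - 1) * S = 1 := by
      rw [← pow_succ', ← pow_succ, Nat.sub_add_cancel hr, hS]; exact ⟨rfl, rfl⟩
    have hσA : Subgroup.zpowers σ ≤ A := Subgroup.zpowers_le.2 fun g => by
      constructor
      · intro h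
        have := hPσ g f f.2
        rw [h, zero_mul] at this
        rw [← one_mul (P g _), ← hS'.2, mul_assoc, ← this, mul_zero]
      · intro h
        have := hPσ g f f.2
        rw [h, mul_zero] at this
        rw [← mul_one (P (σ g) _), ← hS'.1, ← mul_assoc, this, zero_mul]
    have hall : ∀ g, P g (f : Module.End K W) = 0 := by
      intro g
      obtain ⟨ω, i, h2⟩ := hcover g
      rw [show g = (σ ^ i) (rep ω) * (((σ ^ i) (rep ω))⁻¹ * g) by group, hPz _ _ h2,
        hσA (Subgroup.npow_mem_zpowers σ i) (rep ω)]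
      exact hrep ω
    have := hsumP (f : Module.End K W)
    rw [Finset.sum_eq_zero fun g _ => hall g, eq_comm, smul_eq_zero, or_iff_right (mul_ne_zero hcQ hcR)] at this
    exact this
  have hup := LinearMap.finrank_le_finrank_of_injective hΦinj
  rw [Module.finrank_pi_fintype, Finset.sum_const, Finset.card_univ, ← Nat.card_eq_fintype_card, smul_eq_mul] at hup
  have hbpos : 0 < Module.finrank K B := by
    refine Module.finrank_pos_iff_exists_ne_zero.2 ⟨⟨1, fun k => by rw [mul_one, hπu]⟩, fun e => ?_⟩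
    have := congrArg Subtype.val e
    obtain ⟨v, hv⟩ := exists_ne (0 : W)
    exact hv (by simpa using LinearMap.congr_fun this v)
  refine Nat.le_of_mul_le_mul_right ?_ hbpos
  rw [mul_assoc]
  exact hlow.trans (hmain.trans (Nat.mul_le_mul_left _ hup))

end Cfsg.Agent.GrossTwoLength
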