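import Cfsg.Agent.Lib.FittingHeight.Weights
import Cfsg.Agent.Lib.FittingHeight.TwoPowerCore

/-!
# Weights of normal `q`-subgroups and cyclic sums

`ρ : M →* End E`, `x ^ 2 ^ e = 1` with the sum of the `ρ (x ^ i)`, `i < 2 ^ e`, zero on a weight
space: some proper power of `x` fixes the weight. An element whose commutators with a class two
normal `q`-subgroup die in every weight of the centre centralises all normal `q`-subgroups.
-/

set_option autoImplicit false
set_option linter.unusedSectionVars false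
set_option linter.style.haveILetI false

namespace Cfsg.Agent.GrossTwoLength

open Subgroup
open FittingHeight (weightSpace wStab sum_stab_eq_zero eq_one_of_forall_weight apply_eq_of_mem_wStab)
open scoped commutatorElement

variable {M : Type*} [Group M] {k : Type*} [Field k] {E : Type*} [AddCommGroup E] [Module k E]
  (ρ : M →* Module.End k E)

/-- The sum of the operators of `x` of two-power order is zero on `W`. -/
def CyclicSumZero (x : M) (e : ℕ) (W : Submodule k E) : Prop :=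
  ∀ w ∈ W, ∑ i ∈ Finset.range (2 ^ e), ρ (x ^ i) w = 0

theorem stab_step {x : M} {e : ℕ} (hx : x ^ 2 ^ e = 1) {L : Subgroup M}
    (hN : x ∈ normalizer (L : Set M)) {χ : L →* k} {v : E} (hv0 : v ≠ 0)
    (hv : v ∈ weightSpace ρ L χ) (hsum : CyclicSumZero ρ x e (weightSpace ρ L χ)) :
    ∃ j < e, x ^ 2 ^ j ∈ wStab k L χ ∧
      CyclicSumZero ρ (x ^ 2 ^ j) (e - j) (weightSpace ρ L χ) := by
  classical
  have hex : ∃ j, x ^ 2 ^ j ∈ wStab k L χ := ⟨e, by rw [hx]; exact one_mem _⟩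
  set j := Nat.find hex with hj
  have hje : j ≤ e := Nat.find_min' hex (by rw [hx]; exact one_mem _)
  have hjmem := Nat.find_spec hex
  have hdvd : ∀ i, x ^ i ∈ wStab k L χ ↔ 2 ^ j ∣ i := by
    intro i
    refine ⟨fun hi => ?_, fun ⟨c, hc⟩ => by rw [hc, pow_mul]; exact pow_mem hjmem c⟩
    rcases eq_or_ne i 0 with rfl | hi0
    · exact dvd_zero _
    obtain ⟨l, m, hm, rfl⟩ := Nat.exists_eq_pow_mul_and_not_dvd hi0 2 (by norm_num)
    have hl : x ^ 2 ^ l ∈ wStab k L χ := by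
      rw [pow_mul] at hi
      have hco : Nat.Coprime m (orderOf (x ^ 2 ^ l)) := by
        exact ((Nat.coprime_two_right.2 (Nat.odd_iff.2 (by omega))).pow_right e).coprime_dvd_right
          ((orderOf_pow_dvd _).trans (orderOf_dvd_of_pow_eq_one hx))
      obtain ⟨n, hn⟩ := exists_pow_eq_self_of_coprime hco
      rw [← hn]
      exact pow_mem hi n
    exact (pow_dvd_pow 2 (Nat.find_min' hex hl)).trans (dvd_mul_right _ _)
  have key : CyclicSumZero ρ (x ^ 2 ^ j) (e - j) (weightSpace ρ L χ) := by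
    intro w hw
    have h0 := sum_stab_eq_zero ρ hw (fun i : Fin (2 ^ e) => x ^ (i : ℕ))
      (fun i => pow_mem hN _) (by rw [Fin.sum_univ_eq_sum_range fun i => ρ (x ^ i) w]; exact hsum w hw)
      (Finset.univ.filter fun i : Fin (2 ^ e) => 2 ^ j ∣ (i : ℕ))
      (fun i => by simp only [Finset.mem_filter, Finset.mem_univ, true_and, hdvd])
    have he : 2 ^ e = 2 ^ j * 2 ^ (e - j) := by rw [← pow_add, Nat.add_sub_cancel' hje]
    rw [← h0]
    refine Finset.sum_bij (fun i hi => (⟨2 ^ j * i, by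
        rw [he]; exact Nat.mul_lt_mul_of_pos_left (Finset.mem_range.1 hi) (Nat.two_pow_pos j)⟩ : Fin (2 ^ e)))
      (fun i _ => Finset.mem_filter.2 ⟨Finset.mem_univ _, dvd_mul_right _ _⟩)
      (fun a _ b _ h => Nat.eq_of_mul_eq_mul_left (Nat.two_pow_pos j) (congrArg Fin.val h))
      (fun b hb => ?_) (fun i _ => by rw [pow_mul])
    obtain ⟨c, hc⟩ := (Finset.mem_filter.1 hb).2
    refine ⟨c, Finset.mem_range.2 (Nat.lt_of_mul_lt_mul_left (a := 2 ^ j) ?_), Fin.ext hc.symm⟩
    rw [← he, ← hc]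
    exact b.2
  refine ⟨j, lt_of_le_of_ne hje fun h => hv0 ?_, hjmem, key⟩
  have := key v hv
  rwa [h, Nat.sub_self, pow_zero, Finset.sum_range_one, pow_zero, map_one, Module.End.one_apply]
    at this

/-- A normal `q`-subgroup of class two with its centre. -/
structure ClassTwo (q : ℕ) (Q Z : Subgroup M) : Prop where
  normal : Q.Normal
  isPGroup : IsPGroup q Q
  eq : Z = Q ⊓ centralizer (Q : Set M)
  com : ∀ y ∈ Q, ∀ x ∈ Q, ⁅y, x⁆ ∈ Z
  qpow : ∀ x ∈ Q, x ^ q ∈ Z

theorem ClassTwo.le {q : ℕ} {Q Z : Subgroup M} (h : ClassTwo q Q Z) : Z ≤ Q :=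
  h.eq ▸ inf_le_left

theorem ClassTwo.comm {q : ℕ} {Q Z : Subgroup M} (h : ClassTwo q Q Z) {z y : M} (hz : z ∈ Z)
    (hy : y ∈ Q) : y * z = z * y := mem_centralizer_iff.1 (h.eq ▸ hz : z ∈ Q ⊓ _).2 y hy

theorem ClassTwo.normal_centre {q : ℕ} {Q Z : Subgroup M} (h : ClassTwo q Q Z) : Z.Normal := by
  haveI := h.normal
  rw [h.eq]
  infer_instance

theorem ClassTwo.conj_mem {q : ℕ} {Q Z : Subgroup M} (h : ClassTwo q Q Z) (s : M) {x : M}
    (hx : x ∈ Q) : x⁻¹ * (s * x * s⁻¹) ∈ Q := mul_mem (inv_mem hx) (h.normal.conj_mem x hx s)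

variable [Finite M] [IsAlgClosed k] [FiniteDimensional k E]

/-- `x ^ 2 ^ (e-1)` centralises every abelian normal subgroup of order prime to the characteristic. -/
theorem tau_centralizes (hfaith : ∀ m : M, ρ m = 1 → m = 1) {x : M} {e : ℕ} (hx : x ^ 2 ^ e = 1)
    (hsum : CyclicSumZero ρ x e ⊤) {A : Subgroup M} [A.Normal] [IsMulCommutative A]
    (hA : (Nat.card A : k) ≠ 0) : x ^ 2 ^ (e - 1) ∈ centralizer (A : Set M) := by
  set t := x ^ 2 ^ (e - 1) with ht
  refine mem_centralizer_iff.2 fun a (ha : a ∈ A) => ?_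
  have hmem : a⁻¹ * (t * a * t⁻¹) ∈ A := mul_mem (inv_mem ha) (Normal.conj_mem inferInstance a ha t)
  have h1 := eq_one_of_forall_weight ρ hA (l₀ := ⟨_, hmem⟩) (hfaith _) fun χ v hv0 hv => by
    obtain ⟨j, hj, hjmem, -⟩ := stab_step ρ hx (by rw [normalizer_eq_top]; exact mem_top x) hv0 hv
      fun w _ => hsum w Submodule.mem_top
    have htmem : t ∈ wStab k A χ := by
      rw [ht, show e - 1 = j + (e - 1 - j) by omega, pow_add, pow_mul]
      exact pow_mem hjmem _
    have hc : t * a * t⁻¹ ∈ A := Normal.conj_mem inferInstance a ha t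
    rw [show (⟨a⁻¹ * (t * a * t⁻¹), hmem⟩ : A) = (⟨a, ha⟩ : A)⁻¹ * ⟨t * a * t⁻¹, hc⟩ from rfl,
      map_mul, apply_eq_of_mem_wStab htmem ⟨a, ha⟩ hc, ← map_mul, inv_mul_cancel, map_one]
  have h2 : a⁻¹ * (t * a * t⁻¹) = 1 := h1
  rw [inv_mul_eq_one] at h2
  exact eq_mul_inv_iff_mul_eq.1 h2

include ρ in
/-- `s` centralises every normal `q`-subgroup once its commutators die in the weights of the
class two ones. -/
theorem centralizes_of_weights {q : ℕ} [hqF : Fact q.Prime] (hqk : (q : k) ≠ 0)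
    (hfaith : ∀ m : M, ρ m = 1 → m = 1) {s : M} (hs : (orderOf s).Coprime q)
    (hab : ∀ A : Subgroup M, A.Normal → IsMulCommutative A → IsPGroup q A →
      s ∈ centralizer (A : Set M))
    (hwt : ∀ (Q Z : Subgroup M) (h : ClassTwo q Q Z) (χ : Z →* k) (v : E), v ≠ 0 →
      v ∈ weightSpace ρ Z χ → ∀ (y x : M) (hy : y ∈ Q) (hx : x ∈ Q),
        χ ⟨⁅y, x⁻¹ * (s * x * s⁻¹)⁆, h.com y hy _ (h.conj_mem s hx)⟩ = 1) :
    ∀ Q : Subgroup M, Q.Normal → IsPGroup q Q → s ∈ centralizer (Q : Set M) := by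
  classical
  intro Q
  induction hn : Nat.card Q using Nat.strong_induction_on generalizing Q with
  | _ n ih =>
  subst hn
  intro hQn hQq
  haveI := hQn
  by_contra hcon
  have hproper : ∀ K : Subgroup M, K < Q → K.Normal → s ∈ centralizer (K : Set M) := fun K hK hKn =>
    ih _ (lt_of_le_of_ne (card_le_of_le hK.le) fun h =>
      hK.ne (Subgroup.eq_of_le_of_card_ge hK.le h.ge)) K rfl hKn (hQq.to_le hK.le)
  set d : M → M := fun x => x⁻¹ * (s * x * s⁻¹) with hd
  have hdQ : ∀ x ∈ Q, d x ∈ Q := fun x hx => mul_mem (inv_mem hx) (hQn.conj_mem x hx s)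
  have hmove : ∀ x ∈ Q, d x ∈ centralizer ({s} : Set M) → s * x = x * s := by
    intro x hx hdx
    obtain ⟨a, ha⟩ := IsPGroup.iff_orderOf.1 hQq ⟨_, hdQ x hx⟩
    rw [orderOf_mk] at ha
    have h1 : d x = 1 := FittingHeight.eq_one_of_conj_eq_mul (x := x) (c := s)
      (by rw [ha]; exact hs.symm.pow_left a) (by rw [hd, mul_inv_cancel_left])
      (mem_centralizer_singleton_iff.1 hdx).symm
    rw [hd] at h1
    exact mul_inv_eq_iff_eq_mul.1 (inv_mul_eq_one.1 h1).symm
  set D := normalClosure (d '' (Q : Set M)) with hD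
  have hDQ : D = Q := by
    have hle : D ≤ Q := normalClosure_le_normal (by rintro _ ⟨x, hx, rfl⟩; exact hdQ x hx)
    rcases hle.lt_or_eq with hlt | h
    · exfalso
      refine hcon (mem_centralizer_iff.2 fun x hx => (hmove x hx ?_).symm)
      exact mem_centralizer_singleton_iff.2 ((mem_centralizer_iff.1
        (hproper D hlt normalClosure_normal) _ (subset_normalClosure ⟨x, hx, rfl⟩)))
    · exact h
  -- proper normal subgroups of `Q` are central in `Q`
  have hcentral : ∀ K : Subgroup M, K < Q → K.Normal → K ≤ centralizer (Q : Set M) := by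
    intro K hK hKn
    haveI := hKn
    have hsK := hproper K hK hKn
    have hle : Q ≤ centralizer (K : Set M) := by
      rw [← hDQ]
      refine normalClosure_le_normal ?_
      rintro _ ⟨x, -, rfl⟩
      rw [SetLike.mem_coe, hd]
      show x⁻¹ * (s * x * s⁻¹) ∈ centralizer (K : Set M)
      rw [show x⁻¹ * (s * x * s⁻¹) = x⁻¹ * s * x * s⁻¹ by group]
      refine mul_mem ?_ (inv_mem hsK)
      have := Normal.conj_mem (inferInstance : (centralizer (K : Set M)).Normal) s hsK x⁻¹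
      rwa [inv_inv] at this
    exact le_centralizer_iff.1 hle
  have hQne : Q ≠ ⊥ := by
    intro h
    refine hcon (mem_centralizer_iff.2 fun x hx => ?_)
    rw [h, SetLike.mem_coe, mem_bot] at hx
    rw [hx, one_mul, mul_one]
  have hnab : ¬ Q ≤ centralizer (Q : Set M) := fun hab' => hcon (hab Q hQn
    ⟨⟨fun a b => Subtype.ext (mem_centralizer_iff.1 (hab' b.2) a a.2)⟩⟩ hQq)
  set Z := Q ⊓ centralizer (Q : Set M) with hZdef
  have hZQ : Z ≤ Q := inf_le_left
  have hZlt : Z < Q := lt_of_le_of_ne hZQ fun e => hnab (e.ge.trans inf_le_right)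
  haveI hZn : Z.Normal := by rw [hZdef]; infer_instance
  have hQ'lt : ⁅Q, Q⁆ < Q := by
    have : Group.IsNilpotent Q := hQq.isNilpotent
    have : Group.IsSolvable Q := inferInstance
    have hne : Nontrivial Q := (nontrivial_iff_ne_bot Q).2 hQne
    have h1 := Group.IsSolvable.commutator_lt_top_of_nontrivial (G := Q)
    rw [← map_subtype_commutator]
    conv_rhs => rw [← range_subtype Q, MonoidHom.range_eq_map]
    exact (map_lt_map_iff_of_injective Q.subtype_injective).2 h1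
  have hcom : ∀ y ∈ Q, ∀ x ∈ Q, ⁅y, x⁆ ∈ Z := fun y hy x hx =>
    le_inf hQ'lt.le (hcentral _ hQ'lt inferInstance) (commutator_mem_commutator hy hx)
  have hqpow : ∀ x ∈ Q, x ^ q ∈ Z := by
    set Sq : Set M := (fun x => x ^ q) '' (Q : Set M) with hSq
    set K := normalClosure Sq ⊔ Z with hK
    have hKQ : K ≤ Q := sup_le (normalClosure_le_normal (by
      rintro _ ⟨x, hx, rfl⟩; exact pow_mem hx q)) hZQ
    have hKn : K.Normal := by rw [hK]; infer_instance
    have hKlt : K < Q := by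
      refine lt_of_le_of_ne hKQ fun e => ?_
      have hZn' : (Z.subgroupOf Q).Normal := hZn.comap _
      let p : Q ⧸ Z.subgroupOf Q →* Q ⧸ Z.subgroupOf Q :=
        { toFun := fun u => u ^ q
          map_one' := one_pow q
          map_mul' := fun u w => Commute.mul_pow (by
            induction u using QuotientGroup.induction_on with | _ a => ?_
            induction w using QuotientGroup.induction_on with | _ b => ?_
            show _ = _
            rw [← QuotientGroup.mk_mul, ← QuotientGroup.mk_mul, QuotientGroup.eq,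
              show (a * b)⁻¹ * (b * a) = ⁅b⁻¹, a⁻¹⁆ by group]
            exact hcom _ (inv_mem b.2) _ (inv_mem a.2)) q }
      let Im : Subgroup M := (p.range.comap (QuotientGroup.mk' (Z.subgroupOf Q))).map Q.subtype
      have hIm : Im.Normal := ⟨by
        rintro _ ⟨⟨a, ha⟩, ⟨w, hw⟩, rfl⟩ g
        induction w using QuotientGroup.induction_on with | _ b => ?_
        refine ⟨⟨g * a * g⁻¹, hQn.conj_mem a ha g⟩,
          ⟨((⟨g * b * g⁻¹, hQn.conj_mem _ b.2 g⟩ : Q) : Q ⧸ Z.subgroupOf Q), ?_⟩, rfl⟩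
        have hz0 : ((b ^ q : Q) : Q ⧸ Z.subgroupOf Q) = ((⟨a, ha⟩ : Q) : Q ⧸ Z.subgroupOf Q) := hw
        have hz1 := QuotientGroup.eq.1 hz0
        have hz : ((b : M) ^ q)⁻¹ * a ∈ Z := hz1
        show (((⟨g * b * g⁻¹, hQn.conj_mem _ b.2 g⟩ : Q) ^ q : Q) : Q ⧸ Z.subgroupOf Q) = _
        refine QuotientGroup.eq.2 (show ((g * b * g⁻¹) ^ q)⁻¹ * (g * a * g⁻¹) ∈ Z from ?_)
        have := hZn.conj_mem _ hz g
        rwa [conj_pow, show (g * (b : M) ^ q * g⁻¹)⁻¹ * (g * a * g⁻¹) =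
          g * (((b : M) ^ q)⁻¹ * a) * g⁻¹ by group]⟩
      have hKI : K ≤ Im := by
        rw [hK, sup_le_iff]
        refine ⟨normalClosure_le_normal ?_, fun z hz => ⟨⟨z, hZQ hz⟩, ⟨1, ?_⟩, rfl⟩⟩
        · rintro _ ⟨y, hy, rfl⟩
          exact ⟨(⟨y, hy⟩ : Q) ^ q, ⟨((⟨y, hy⟩ : Q) : Q ⧸ Z.subgroupOf Q), rfl⟩, rfl⟩
        · rw [map_one]
          exact ((QuotientGroup.eq_one_iff (⟨z, hZQ hz⟩ : Q)).2 hz).symm
      have hsurj : Function.Surjective p := by
        intro u
        induction u using QuotientGroup.induction_on with | _ x => ?_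
        obtain ⟨x, hx⟩ := x
        obtain ⟨y, ⟨w, hw⟩, hyx⟩ := hKI (e ▸ hx : x ∈ K)
        obtain rfl : y = ⟨x, hx⟩ := Subtype.ext hyx
        exact ⟨w, hw⟩
      have hinj := Finite.injective_iff_surjective.2 hsurj
      have hq' : IsPGroup q (Q ⧸ Z.subgroupOf Q) := hQq.to_quotient _
      have : Nontrivial (Q ⧸ Z.subgroupOf Q) :=
        QuotientGroup.nontrivial_iff.2 fun e => hZlt.ne (le_antisymm hZQ (subgroupOf_eq_top.1 e))
      obtain ⟨a, ha, hca⟩ := hq'.nontrivial_iff_card.1 this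
      obtain ⟨u, hu⟩ := exists_prime_orderOf_dvd_card' q (G := Q ⧸ Z.subgroupOf Q)
        (hca ▸ dvd_pow_self q ha.ne')
      have : u = 1 := hinj (show u ^ q = 1 ^ q by rw [one_pow, ← hu, pow_orderOf_eq_one])
      rw [this, orderOf_one] at hu
      exact hqF.out.one_lt.ne hu
    exact fun x hx => ⟨pow_mem hx q, hcentral K hKlt hKn
      (mem_sup_left (subset_normalClosure ⟨x, hx, rfl⟩))⟩
  have h2 : ClassTwo q Q Z := ⟨hQn, hQq, hZdef, hcom, hqpow⟩
  have hsZ := hproper Z hZlt hZn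
  have hZk : (Nat.card Z : k) ≠ 0 := by
    obtain ⟨a, ha⟩ := (hQq.to_le hZQ).exists_card_eq
    rw [ha, Nat.cast_pow]
    exact pow_ne_zero _ hqk
  haveI : IsMulCommutative Z :=
    ⟨⟨fun a b => Subtype.ext (mem_centralizer_iff.1 b.2.2 a a.2.1)⟩⟩
  have hdZ : ∀ x ∈ Q, d x ∈ Z := by
    intro x hx
    refine ⟨hdQ x hx, mem_centralizer_iff.2 fun y hy => ?_⟩
    rw [← commutatorElement_eq_one_iff_mul_comm]
    exact eq_one_of_forall_weight ρ hZk (l₀ := ⟨_, hcom y hy _ (hdQ x hx)⟩) (hfaith _)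
      fun χ v hv0 hv => hwt Q Z h2 χ v hv0 hv y x hy hx
  refine hcon (mem_centralizer_iff.2 fun x hx => (hmove x hx ?_).symm)
  exact mem_centralizer_singleton_iff.2 (mem_centralizer_iff.1 hsZ _ (hdZ x hx))

end Cfsg.Agent.GrossTwoLength
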