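import Cfsg.Agent.Lib.GrossTwoLength.Rotations
import Cfsg.Agent.Lib.GrossTwoLength.Weights
import Cfsg.Agent.Lib.GrossTwoLength.Count
import Cfsg.Agent.Lib.FittingHeight.TwoPowerBound
import Cfsg.Agent.Lib.HallHigman.Unipotent
import Cfsg.Agent.Lib.HallHigman.TheoremB
import Cfsg.Agent.Lib.SolvableTransitive.Isometry

/-!
# The bound on a weight of the centre of a class two `q`-group

`x ^ 2 ^ e = 1` and the sum of the `ρ (x ^ i)`, `i < 2 ^ e`, is zero, in characteristic two. On the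
space of the pairing of a weight some power `x ^ 2 ^ j` is a rotation, unless `x ^ 2 ^ (e-1)` is
trivial there.
-/

set_option autoImplicit false
set_option linter.unusedSectionVars false
set_option linter.style.haveILetI false

namespace Cfsg.Agent.GrossTwoLength

open Subgroup
open FittingHeight (weightSpace wStab QPairing apply_eq_of_mem_wStab mapsTo_weightSpace exists_weight
  mapsTo_weightSpace_of_commute apply_mul mem_wStab_iff)
open scoped commutatorElement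

variable {M : Type*} [Group M] {k : Type*} [Field k] {q : ℕ} {Q Z : Subgroup M}

theorem ClassTwo.val_mul_right (h : ClassTwo q Q Z) (χ : Z →* k) (y a b : Q) :
    χ ⟨⁅(y : M), (a : M) * b⁆, h.com _ y.2 _ (mul_mem a.2 b.2)⟩ =
      χ ⟨⁅(y : M), (a : M)⁆, h.com _ y.2 _ a.2⟩ * χ ⟨⁅(y : M), (b : M)⁆, h.com _ y.2 _ b.2⟩ := by
  rw [← map_mul]
  congr 1
  refine Subtype.ext (show ⁅(y : M), (a : M) * b⁆ = ⁅(y : M), (a : M)⁆ * ⁅(y : M), (b : M)⁆ from ?_)
  rw [show ⁅(y : M), (a : M) * b⁆ = ⁅(y : M), (a : M)⁆ * ((a : M) * ⁅(y : M), (b : M)⁆ * (a : M)⁻¹) by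
    group, h.comm (h.com _ y.2 _ b.2) a.2, mul_inv_cancel_right]

/-- The pairing of a weight. -/
noncomputable def ClassTwo.pairing (h : ClassTwo q Q Z) (χ : Z →* k) : QPairing Q k q :=
  let μ : Q → Q → kˣ := fun y x => Units.map χ (toUnits ⟨⁅(y : M), (x : M)⁆, h.com _ y.2 _ x.2⟩)
  have hr : ∀ y a b, μ y (a * b) = μ y a * μ y b := fun y a b =>
    Units.ext (h.val_mul_right χ y a b)
  have hs : ∀ x, μ x x = 1 := fun x => by
    refine Units.ext ?_
    show χ ⟨⁅(x : M), (x : M)⁆, _⟩ = 1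
    rw [← map_one χ]
    congr 1
    exact Subtype.ext (commutatorElement_self _)
  have hmem : ∀ y x, μ y x ∈ rootsOfUnity q k := fun y x => by
    have hpow : ∀ i : ℕ, μ y (x ^ i) = μ y x ^ i := by
      intro i
      induction i with
      | zero =>
        rw [pow_zero, pow_zero]
        have := hr y 1 1
        rw [one_mul] at this
        exact mul_eq_left.1 this.symm
      | succ i ih => rw [pow_succ, pow_succ, hr, ih]
    rw [mem_rootsOfUnity, ← hpow]
    refine Units.ext ?_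
    show χ ⟨⁅(y : M), ((x ^ q : Q) : M)⁆, _⟩ = 1
    rw [← map_one χ]
    congr 1
    exact Subtype.ext (commutatorElement_eq_one_iff_mul_comm.2 (h.comm (h.qpow _ x.2) y.2))
  { toFun := fun y x => ⟨μ y x, hmem y x⟩
    mul_left := fun a b y => Subtype.ext (Units.ext (by
      show χ ⟨⁅(a : M) * b, (y : M)⁆, _⟩ = χ ⟨⁅(a : M), (y : M)⁆, _⟩ * χ ⟨⁅(b : M), (y : M)⁆, _⟩
      rw [← map_mul]
      congr 1
      refine Subtype.ext (show ⁅(a : M) * b, (y : M)⁆ = ⁅(a : M), (y : M)⁆ * ⁅(b : M), (y : M)⁆ from ?_)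
      rw [show ⁅(a : M) * b, (y : M)⁆ = (a : M) * ⁅(b : M), (y : M)⁆ * (a : M)⁻¹ * ⁅(a : M), (y : M)⁆ by
        group, h.comm (h.com _ b.2 _ y.2) a.2, mul_inv_cancel_right,
        (h.comm (h.com _ a.2 _ y.2) (h.le (h.com _ b.2 _ y.2)))]))
    mul_right := fun y a b => Subtype.ext (hr y a b)
    self := fun x => Subtype.ext (hs x) }

theorem ClassTwo.pairing_val (h : ClassTwo q Q Z) (χ : Z →* k) (y x : Q) :
    (((h.pairing χ).toFun y x : kˣ) : k) = χ ⟨⁅(y : M), (x : M)⁆, h.com _ y.2 _ x.2⟩ := rfl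

theorem ClassTwo.pairing_eq_one (h : ClassTwo q Q Z) (χ : Z →* k) (y x : Q) :
    (h.pairing χ).toFun y x = 1 ↔ χ ⟨⁅(y : M), (x : M)⁆, h.com _ y.2 _ x.2⟩ = 1 := by
  rw [← h.pairing_val χ y x, Units.val_eq_one, OneMemClass.coe_eq_one]

variable [Fact q.Prime]

/-- Conjugation by the stabiliser of the weight. -/
noncomputable def ClassTwo.conjIso (h : ClassTwo q Q Z) (χ : Z →* k) :
    wStab k Z χ →* (h.pairing χ).isoSub :=
  haveI := h.normal
  ((MulAut.conjNormal (H := Q)).comp (wStab k Z χ).subtype).codRestrict _ fun m x y =>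
    Subtype.ext (Units.ext (by
      rw [h.pairing_val, h.pairing_val]
      haveI := h.normal_centre
      have hm := apply_eq_of_mem_wStab m.2 (⟨⁅(x : M), (y : M)⁆, h.com _ x.2 _ y.2⟩ : Z)
        (Normal.conj_mem inferInstance _ (h.com _ x.2 _ y.2) _)
      rw [← hm]
      congr 1
      refine Subtype.ext (show ⁅(m : M) * x * (m : M)⁻¹, (m : M) * y * (m : M)⁻¹⁆ =
        (m : M) * ⁅(x : M), (y : M)⁆ * (m : M)⁻¹ from ?_)
      group))

/-- The operators of the stabiliser on the space of the pairing. -/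
noncomputable def ClassTwo.act (h : ClassTwo q Q Z) (χ : Z →* k) :
    wStab k Z χ →* (Module.End (ZMod q) (h.pairing χ).Space)ˣ :=
  ((h.pairing χ).act).comp (h.conjIso χ)

theorem ClassTwo.act_cls (h : ClassTwo q Q Z) (χ : Z →* k) (m : wStab k Z χ) (x : Q) :
    h.act χ m • (h.pairing χ).cls x =
      (h.pairing χ).cls ⟨(m : M) * x * (m : M)⁻¹, h.normal.conj_mem _ x.2 _⟩ :=
  (h.pairing χ).act_cls (h.conjIso χ m) x

theorem ClassTwo.act_iso (h : ClassTwo q Q Z) (χ : Z →* k) (m : wStab k Z χ) :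
    FittingHeight.Plane.Iso (h.pairing χ).form (h.act χ m) :=
  (h.pairing χ).act_iso (h.conjIso χ m)

theorem ClassTwo.val_eq_one_of_act (h : ClassTwo q Q Z) (χ : Z →* k) {m : wStab k Z χ}
    (hm : h.act χ m = 1) {y x : M} (hy : y ∈ Q) (hx : x ∈ Q) :
    χ ⟨⁅y, x⁻¹ * ((m : M) * x * (m : M)⁻¹)⁆, h.com y hy _ (h.conj_mem (m : M) hx)⟩ = 1 := by
  have hc := h.act_cls χ m ⟨x, hx⟩
  rw [hm, one_smul] at hc
  have := (h.pairing_eq_one χ ⟨y, hy⟩ _).1 ((QuotientGroup.eq.1 hc : _ ∈ (h.pairing χ).rad) ⟨y, hy⟩)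
  exact this

variable {E : Type*} [AddCommGroup E] [Module k E]

variable (ρ : M →* Module.End k E)

variable [Finite M] [IsAlgClosed k] [CharP k 2] [FiniteDimensional k E]

theorem natCast_ne_zero_two (hq2 : q ≠ 2) : (q : k) ≠ 0 := by
  rw [Ne, CharP.cast_eq_zero_iff k 2]
  exact fun h => hq2 ((Nat.prime_dvd_prime_iff_eq Nat.prime_two (Fact.out : q.Prime)).1 h).symm

theorem natCast_card_ne_zero (hq2 : q ≠ 2) {L : Subgroup M} (hL : IsPGroup q L) :
    (Nat.card L : k) ≠ 0 := by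
  obtain ⟨a, ha⟩ := hL.exists_card_eq
  rw [ha, Nat.cast_pow]
  exact pow_ne_zero _ (natCast_ne_zero_two hq2)

theorem ClassTwo.form_geo (h : ClassTwo q Q Z) (χ : Z →* k) {d : ℕ} (hq2 : q ≠ 2) (hd : 2 ≤ d)
    (hqd : q + 1 = 2 ^ d) : Geo (q := q) (h.pairing χ).form d :=
  ⟨(h.pairing χ).form_self, (h.pairing χ).form_nondeg, QPairing.no_two_torsion hq2, hq2, hd, hqd⟩

/-- The orbit count: `|V| ≤ (r-1) · S'`, `S'` the sum of the fixed point numbers of the non-trivial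
elements. -/
theorem orbit_bound {V : Type*} [AddCommGroup V] [Module (ZMod q) V] [Finite V]
    (ŷ : (Module.End (ZMod q) V)ˣ) {r : ℕ} (hr : orderOf ŷ = r)
    (hle : Nat.card V ≤ (r - 1) * Nat.card (MulAction.orbitRel.Quotient (zpowers ŷ) V))
    [Fintype (zpowers ŷ)] [DecidableEq (zpowers ŷ)] :
    Nat.card V ≤ (r - 1) * ∑ a ∈ (Finset.univ.erase (1 : zpowers ŷ)),
      Nat.card (MulAction.fixedBy V a) := by
  classical
  haveI := Fintype.ofFinite V
  set N := Nat.card (MulAction.orbitRel.Quotient (zpowers ŷ) V)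
  have hB : ∑ a : zpowers ŷ, Nat.card (MulAction.fixedBy V a) = N * r := by
    simp only [N, Nat.card_eq_fintype_card]
    rw [MulAction.sum_card_fixedBy_eq_card_orbits_mul_card_group]
    congr 1
    rw [← Nat.card_eq_fintype_card, Nat.card_zpowers, hr]
  rw [← Finset.add_sum_erase _ _ (Finset.mem_univ (1 : zpowers ŷ)),
    show Nat.card (MulAction.fixedBy V (1 : zpowers ŷ)) = Nat.card V by
      rw [MulAction.fixedBy_one_eq_univ]; exact Nat.card_congr (Equiv.Set.univ V)] at hB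
  set S' := ∑ a ∈ (Finset.univ.erase (1 : zpowers ŷ)), Nat.card (MulAction.fixedBy V a)
  obtain ⟨s, rfl⟩ : ∃ s, r = s + 1 := ⟨r - 1, by
    have : 0 < r := hr ▸ orderOf_pos ŷ
    omega⟩
  rw [Nat.add_sub_cancel] at hle ⊢
  have h1 : (s + 1) * Nat.card V ≤ s * (Nat.card V + S') :=
    calc (s + 1) * Nat.card V ≤ (s + 1) * (s * N) := Nat.mul_le_mul_left _ hle
      _ = s * (N * (s + 1)) := by ring
      _ = s * (Nat.card V + S') := by rw [hB]
  rw [Nat.add_mul, one_mul, Nat.mul_add] at h1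
  omega

variable (q) in
/-- A two-power element whose orbit count is large is a rotation. -/
theorem isRot_of_orbits {V : Type*} [AddCommGroup V] [Module (ZMod q) V] [Finite V] {C : Type*}
    [AddCommGroup C] {K : Type*} [Field K] (ι : C →+ Additive Kˣ) (hι : Function.Injective ι)
    {β : V →+ V →+ C} (halt : ∀ x, β x x = 0) (hnd : ∀ x, (∀ v, β v x = 0) → x = 0)
    (h2 : ∀ c : C, c + c = 0 → c = 0) (hq2 : q ≠ 2) {ŷ : (Module.End (ZMod q) V)ˣ}
    (hyi : FittingHeight.Plane.Iso β ŷ) {d : ℕ} (hpow : ŷ ^ 2 ^ d = 1)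
    (hne : tau d ŷ ≠ 1) (hd0 : 0 < d)
    (hle : Nat.card V ≤ (2 ^ d - 1) * Nat.card (MulAction.orbitRel.Quotient (zpowers ŷ) V)) :
    2 ≤ d ∧ q + 1 = 2 ^ d ∧ IsRot β d ŷ := by
  classical
  haveI : Fintype (zpowers ŷ) := Fintype.ofFinite _
  have hord : orderOf ŷ = 2 ^ d := by
    obtain ⟨m, rfl⟩ : ∃ m, d = m + 1 := ⟨d - 1, by omega⟩
    refine orderOf_eq_prime_pow (fun h => hne ?_) hpow
    rw [tau, Nat.add_sub_cancel, h]
  set τ := tau d ŷ with hτ
  have hττ : τ * τ = 1 := by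
    rw [hτ, tau, ← pow_add, ← mul_two, ← pow_succ, Nat.sub_add_cancel hd0, hpow]
  set T := plane d ŷ with hT
  let F : Set V := {v | τ • v = v}
  -- the sum
  have h0 := orbit_bound ŷ hord hle
  have hsub : ∀ a ∈ Finset.univ.erase (1 : zpowers ŷ), MulAction.fixedBy V a ⊆ F := by
    intro a ha v hv
    have ha1 : a ≠ 1 := (Finset.mem_erase.1 ha).1
    obtain ⟨i, hi⟩ := mem_powers_iff_mem_zpowers.2 a.2
    have hi' : ŷ ^ i = (a : (Module.End (ZMod q) V)ˣ) := hi
    have hi0 : i ≠ 0 := fun e => ha1 (Subtype.ext (by rw [← hi', e, pow_zero]; rfl))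
    obtain ⟨l, m, hm, rfl⟩ := Nat.exists_eq_pow_mul_and_not_dvd hi0 2 (by norm_num)
    have hl : l < d := by
      by_contra hcon
      refine ha1 (Subtype.ext ?_)
      show (a : (Module.End (ZMod q) V)ˣ) = 1
      rw [← hi', show l = d + (l - d) by omega, pow_add, mul_assoc, pow_mul, hpow, one_pow]
    have hv' : (ŷ ^ 2 ^ l) ^ m ∈ MulAction.stabilizer (Module.End (ZMod q) V)ˣ v := by
      rw [← pow_mul, hi']; exact hv
    have hco : Nat.Coprime m (orderOf (ŷ ^ 2 ^ l)) :=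
      ((Nat.coprime_two_right.2 (Nat.odd_iff.2 (by omega))).pow_right d).coprime_dvd_right
        ((orderOf_pow_dvd _).trans (dvd_of_eq hord))
    obtain ⟨n, hn⟩ := exists_pow_eq_self_of_coprime hco
    have hv2 : ŷ ^ 2 ^ l ∈ MulAction.stabilizer (Module.End (ZMod q) V)ˣ v := by
      rw [← hn]; exact pow_mem hv' n
    show τ • v = v
    rw [hτ, tau, show d - 1 = l + (d - 1 - l) by omega, pow_add, pow_mul]
    exact MulAction.mem_stabilizer_iff.1 (pow_mem hv2 _)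
  have hFcard : ∀ a ∈ Finset.univ.erase (1 : zpowers ŷ),
      Nat.card (MulAction.fixedBy V a) ≤ Nat.card F := fun a ha =>
    Nat.card_mono (Set.toFinite _) (hsub a ha)
  have hcardA : (Finset.univ.erase (1 : zpowers ŷ)).card = 2 ^ d - 1 := by
    rw [Finset.card_erase_of_mem (Finset.mem_univ _), Finset.card_univ, ← Nat.card_eq_fintype_card,
      Nat.card_zpowers, hord]
  -- the decomposition
  have h2' : (2 : ZMod q) ≠ 0 := FittingHeight.Plane.two_ne_zero' hq2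
  have hdecomp : ∀ v, ∃ t ∈ T, ∃ f, τ • f = f ∧ v = t + f := by
    intro v
    set c : ZMod q := 2⁻¹
    have htt : τ • τ • v = v := by rw [smul_smul, hττ, one_smul]
    refine ⟨c • (v - τ • v), ?_, c • (v + τ • v), ?_, ?_⟩
    · rw [hT, mem_plane, ← hτ, smul_zmod, smul_sub, htt, ← smul_neg, neg_sub]
    · rw [smul_zmod, smul_add, htt, add_comm]
    · rw [← smul_add, sub_add_add_cancel, ← two_smul (ZMod q) v, smul_smul, inv_mul_cancel₀ h2',
        one_smul]
  have hdisj : ∀ x ∈ T, τ • x = x → x = 0 := fun x hx hf =>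
    two_smul_inj hq2 (eq_neg_iff_add_eq_zero.1 (hf.symm.trans (mem_plane.1 hx)))
  have horth : ∀ x ∈ T, ∀ f, τ • f = f → β x f = 0 := fun x hx f hf =>
    FittingHeight.Plane.orth_of_isometry h2 (hyi.pow _) (mem_plane.1 hx) hf
  have hprod : Nat.card V = Nat.card T * Nat.card F := by
    rw [← Nat.card_prod]
    refine (Nat.card_eq_of_bijective (fun p : T × F => (p.1 : V) + (p.2 : V)) ⟨?_, ?_⟩).symm
    · rintro ⟨t, f⟩ ⟨t', f'⟩ h
      have h1 : (t : V) - t' = (f' : V) - f := sub_eq_sub_iff_add_eq_add.2 (h.trans (add_comm _ _))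
      have hft : (f' : V) - f = 0 := hdisj _ (h1 ▸ sub_mem t.2 t'.2) (by
        rw [smul_sub, show τ • (f' : V) = f' from f'.2, show τ • (f : V) = f from f.2])
      rw [hft, sub_eq_zero] at h1
      rw [sub_eq_zero] at hft
      exact Prod.ext (Subtype.ext h1) (Subtype.ext hft.symm)
    · intro v
      obtain ⟨t, ht, f, hf, rfl⟩ := hdecomp v
      exact ⟨(⟨t, ht⟩, ⟨f, hf⟩), rfl⟩
  have hsum : ∑ a ∈ Finset.univ.erase (1 : zpowers ŷ), Nat.card (MulAction.fixedBy V a) ≤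
      (2 ^ d - 1) * Nat.card F := by
    refine (Finset.sum_le_card_nsmul _ _ _ hFcard).trans ?_
    rw [hcardA, smul_eq_mul]
  have hFpos : 0 < Nat.card F := by
    haveI : Nonempty F := ⟨⟨0, smul_zero τ⟩⟩
    exact Nat.card_pos
  have hTle : Nat.card T ≤ (2 ^ d - 1) * (2 ^ d - 1) := by
    refine Nat.le_of_mul_le_mul_right ?_ hFpos
    rw [← hprod, mul_assoc]
    exact h0.trans (Nat.mul_le_mul_left _ hsum)
  -- the plane has square order
  have hTnd : ∀ x ∈ T, (∀ t ∈ T, β x t = 0) → x = 0 := by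
    intro x hx h
    refine hnd x fun v => ?_
    obtain ⟨t, ht, f, hf, rfl⟩ := hdecomp v
    rw [map_add, AddMonoidHom.add_apply, FittingHeight.Plane.skew halt x t,
      FittingHeight.Plane.skew halt x f, h t ht, horth x hx f hf, neg_zero, add_zero]
  obtain ⟨a, ha⟩ : ∃ a, Nat.card T = q ^ (2 * a) := by
    let g : Multiplicative T →* Multiplicative T →* Kˣ :=
      MonoidHom.mk' (fun x => MonoidHom.mk'
        (fun y => (ι (β (x.toAdd : V) (y.toAdd : V))).toMul)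
        (fun y y' => by simp only [toAdd_mul, Submodule.coe_add, map_add, toMul_add]))
        fun x x' => MonoidHom.ext fun y => by
          simp only [toAdd_mul, Submodule.coe_add, map_add, AddMonoidHom.add_apply, toMul_add,
            MonoidHom.mk'_apply, MonoidHom.mul_apply]
    have hg1 : ∀ x y : Multiplicative T, g x y = 1 ↔ β (x.toAdd : V) (y.toAdd : V) = 0 := fun x y => by
      show (ι _).toMul = 1 ↔ _
      rw [toMul_eq_one, map_eq_zero_iff ι hι]
    obtain ⟨a, ha⟩ := SolvableTransitive.exists_card_eq_sq (p := q) g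
      (fun x => (hg1 x x).2 (halt _))
      (fun x => by
        refine Multiplicative.toAdd.injective ?_
        rw [toAdd_pow, toAdd_one, ← Nat.cast_smul_eq_nsmul (ZMod q), ZMod.natCast_self, zero_smul])
      ⊤ (fun x _ hx => by
        refine Multiplicative.toAdd.injective (Subtype.ext ?_)
        rw [toAdd_one]
        exact hTnd _ x.toAdd.2 fun t ht => (hg1 x (Multiplicative.ofAdd ⟨t, ht⟩)).1 (hx _ (mem_top _)))
    rw [card_top] at ha
    exact ⟨a, ha⟩
  -- divisibility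
  have hne' : ∃ t ∈ T, t ≠ 0 := by
    by_contra hall
    push Not at hall
    refine hne (Units.ext (LinearMap.ext fun v => ?_))
    show τ • v = v
    obtain ⟨t, ht, f, hf, rfl⟩ := hdecomp v
    rw [hall t ht, zero_add, hf]
  have ha0 : a ≠ 0 := by
    rintro rfl
    obtain ⟨t, ht, ht0⟩ := hne'
    rw [mul_zero, pow_zero, Nat.card_eq_one_iff_unique] at ha
    exact ht0 (congrArg Subtype.val (@Subsingleton.elim _ ha.1 (⟨t, ht⟩ : T) 0))
  have hTinv : ∀ g : zpowers ŷ, ∀ t ∈ T, (g : (Module.End (ZMod q) V)ˣ) • t ∈ T := by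
    intro g t ht
    obtain ⟨i, hi⟩ := mem_powers_iff_mem_zpowers.2 g.2
    rw [mem_plane] at ht ⊢
    rw [← hi, smul_smul, show tau d ŷ * ŷ ^ i = ŷ ^ i * tau d ŷ from (Commute.pow_pow_self ŷ _ _).eq,
      mul_smul, ht, smul_neg]
  letI : MulAction (zpowers ŷ) T :=
    { smul := fun g t => ⟨(g : (Module.End (ZMod q) V)ˣ) • (t : V), hTinv g t t.2⟩
      one_smul := fun t => Subtype.ext (one_smul _ (t : V))
      mul_smul := fun g g' t => Subtype.ext (mul_smul (g : (Module.End (ZMod q) V)ˣ)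
        (g' : (Module.End (ZMod q) V)ˣ) (t : V)) }
  have horb := HallHigman.card_orbits_free (A := zpowers ŷ) (X := T)
    (show Nat.card (zpowers ŷ) = 2 ^ d by rw [Nat.card_zpowers, hord]) 0
    (fun g => Subtype.ext (smul_zero (g : (Module.End (ZMod q) V)ˣ)))
    (fun x hx g hg => by
      by_contra hg1
      refine hx (Subtype.ext (hdisj _ x.2 ?_))
      exact hsub g (Finset.mem_erase.2 ⟨hg1, Finset.mem_univ _⟩) (congrArg Subtype.val hg))
  rw [ha] at horb hTle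
  have hqo : Odd q := (Fact.out : q.Prime).odd_of_ne_two hq2
  have hq3 : 3 ≤ q := by
    have := (Fact.out : q.Prime).two_le
    omega
  have hdvd : 2 ^ d ∣ (q ^ a + 1) * (q ^ a - 1) := by
    have hN : 1 ≤ Nat.card (MulAction.orbitRel.Quotient (zpowers ŷ) T) := by
      haveI : Nonempty (MulAction.orbitRel.Quotient (zpowers ŷ) T) := ⟨Quotient.mk'' 0⟩
      exact Nat.card_pos
    obtain ⟨N', hN'⟩ : ∃ N', Nat.card (MulAction.orbitRel.Quotient (zpowers ŷ) T) = N' + 1 :=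
      ⟨_, (Nat.sub_add_cancel hN).symm⟩
    rw [hN', Nat.mul_succ] at horb
    refine ⟨N', ?_⟩
    rw [← Nat.sq_sub_sq, one_pow, ← pow_mul, mul_comm a 2]
    omega
  have hqa : q ^ a ≤ 2 ^ d - 1 := by
    rw [two_mul, pow_add] at hTle
    exact Nat.mul_self_le_mul_self_iff.1 hTle
  obtain ⟨hd2, hcases⟩ := FittingHeight.TwoPower.cases_of_dvd hqo hq3 ha0 hqa hdvd
  -- the restriction to the plane
  have hpres : ∀ w ∈ T, (ŷ : Module.End (ZMod q) V) w ∈ T := fun w hw =>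
    hTinv ⟨ŷ, mem_zpowers ŷ⟩ w hw
  have hpres' : ∀ w ∈ T, ((ŷ⁻¹ : (Module.End (ZMod q) V)ˣ) : Module.End (ZMod q) V) w ∈ T := fun w hw =>
    hTinv ⟨ŷ⁻¹, inv_mem (mem_zpowers ŷ)⟩ w hw
  let yT : (Module.End (ZMod q) T)ˣ :=
    ⟨(ŷ : Module.End (ZMod q) V).restrict hpres,
      ((ŷ⁻¹ : (Module.End (ZMod q) V)ˣ) : Module.End (ZMod q) V).restrict hpres',
      LinearMap.ext fun w => Subtype.ext (smul_inv_smul ŷ (w : V)),
      LinearMap.ext fun w => Subtype.ext (inv_smul_smul ŷ (w : V))⟩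
  let βT : T →+ T →+ C := AddMonoidHom.mk' (fun x => (β (x : V)).comp T.subtype.toAddMonoidHom)
    fun x x' => AddMonoidHom.ext fun w => by simp
  have hβT : ∀ x y : T, βT x y = β (x : V) (y : V) := fun _ _ => rfl
  have hnT : ∀ x : T, (∀ v, βT v x = 0) → x = 0 := fun x hx => Subtype.ext (hTnd _ x.2 fun t ht => by
    have h' : β t (x : V) = 0 := hx ⟨t, ht⟩
    rw [FittingHeight.Plane.skew halt t (x : V), h', neg_zero])
  have hiT : FittingHeight.Plane.Iso βT yT := fun x v => hyi (x : V) (v : V)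
  have hnegT : (yT : Module.End (ZMod q) T) ^ 2 ^ (d - 1) = -1 := by
    refine LinearMap.ext fun w => Subtype.ext ?_
    have hp : ∀ n : ℕ, (((yT : Module.End (ZMod q) T) ^ n) w : V) = ŷ ^ n • (w : V) := by
      intro n
      induction n with
      | zero => rw [pow_zero, pow_zero, one_smul]; rfl
      | succ n ih => rw [pow_succ', pow_succ', mul_smul, Module.End.mul_apply, ← ih]; rfl
    rw [hp, LinearMap.neg_apply, Module.End.one_apply, NegMemClass.coe_neg]
    exact mem_plane.1 w.2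
  obtain ⟨t0, ht0, ht0'⟩ := hne'
  haveI : Nontrivial T := ⟨⟨⟨t0, ht0⟩, 0, fun e => ht0' (congrArg Subtype.val e)⟩⟩
  rcases hcases with ⟨rfl, hq⟩ | ⟨rfl, hd3, hq⟩ | ⟨rfl, rfl, hd4⟩
  · refine ⟨hd2, hq, hyi, hpow, ?_, ?_⟩
    · rw [ha, mul_one]
    · -- equality throughout
      have hr1 : 2 ^ d - 1 = q := by omega
      rw [mul_one] at ha
      have h3 : Nat.card F * (2 ^ d - 1) ≤
          ∑ a ∈ Finset.univ.erase (1 : zpowers ŷ), Nat.card (MulAction.fixedBy V a) := by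
        refine Nat.le_of_mul_le_mul_left (c := 2 ^ d - 1) ?_ (by omega)
        refine le_trans (le_of_eq ?_) h0
        rw [hprod, ha, hr1]; ring
      have hall := (Finset.sum_eq_sum_iff_of_le hFcard).1 (le_antisymm (Finset.sum_le_sum hFcard)
        (by rw [Finset.sum_const, hcardA, smul_eq_mul, mul_comm]; exact h3))
      intro f hf
      have hy1 : (⟨ŷ, mem_zpowers ŷ⟩ : zpowers ŷ) ∈ Finset.univ.erase 1 := by
        refine Finset.mem_erase.2 ⟨fun e => hne ?_, Finset.mem_univ _⟩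
        rw [hτ, tau, show ŷ = 1 from congrArg Subtype.val e, one_pow]
      have heq := Set.eq_of_subset_of_ncard_le (hsub _ hy1) (by
        rw [← Nat.card_coe_set_eq, ← Nat.card_coe_set_eq]; exact (hall _ hy1).ge)
      have hfm : f ∈ MulAction.fixedBy V (⟨ŷ, mem_zpowers ŷ⟩ : zpowers ŷ) := by
        rw [heq]; exact hf
      exact hfm
  · exact (FittingHeight.no_half_plane hq2 hd3 hq (β := βT) (fun x => halt _) hnT h2
      (by rw [ha]) hiT hnegT).elim
  · exact (FittingHeight.no_nine (β := βT) hnT (by rw [ha]; norm_num) hiT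
      (by rw [hd4] at hnegT; exact hnegT)).elim

include ρ in
/-- The theorem of this file. -/
theorem exists_rot (hq2 : q ≠ 2) (h : ClassTwo q Q Z) (χ : Z →* k) {v : E} (hv0 : v ≠ 0)
    (hv : v ∈ weightSpace ρ Z χ) {x : M} {e : ℕ} (hx : x ^ 2 ^ e = 1)
    (hsum : CyclicSumZero ρ x e ⊤) :
    ∃ (j : ℕ) (_ : j < e) (hm : x ^ 2 ^ j ∈ wStab k Z χ),
      h.act χ ⟨x ^ 2 ^ j, hm⟩ ^ 2 ^ (e - j - 1) = 1 ∨
      2 ≤ e - j ∧ q + 1 = 2 ^ (e - j) ∧ IsRot (h.pairing χ).form (e - j) (h.act χ ⟨x ^ 2 ^ j, hm⟩) := by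
  classical
  haveI := h.normal
  haveI := h.normal_centre
  set P := h.pairing χ with hP
  obtain ⟨j₀, hj₀, hx0, hsum0⟩ := stab_step ρ hx (by rw [normalizer_eq_top]; exact mem_top x) hv0 hv
    fun w _ => hsum w Submodule.mem_top
  set W₀ := weightSpace ρ Z χ with hW₀
  -- the radical
  set R0 : Subgroup M := P.rad.map Q.subtype with hR0
  have hR0Q : R0 ≤ Q := map_subtype_le _
  have hZR0 : Z ≤ R0 := fun z hz => ⟨⟨z, h.le hz⟩, fun y => by
    rw [hP, h.pairing_eq_one, ← map_one χ]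
    congr 1
    exact Subtype.ext (commutatorElement_eq_one_iff_mul_comm.2 (h.comm hz y.2)), rfl⟩
  have hQW₀ : ∀ g ∈ Q, ∀ w ∈ W₀, ρ g w ∈ W₀ := fun g hg w hw =>
    mapsTo_weightSpace_of_commute ρ (mem_centralizer_iff.2 fun z hz => (h.comm hz hg).symm) hw
  have hval : ∀ z (hz : z ∈ Z), ∀ w ∈ W₀, ρ z w = χ ⟨z, hz⟩ • w := fun z hz w hw => hw ⟨z, hz⟩
  have hrad : ∀ r ∈ R0, ∀ g, (hg : g ∈ Q) → ∀ (hc : ⁅g, r⁆ ∈ Z), χ ⟨⁅g, r⁆, hc⟩ = 1 := by
    rintro _ ⟨r, hr, rfl⟩ g hg hc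
    exact (h.pairing_eq_one χ ⟨g, hg⟩ r).1 (hr ⟨g, hg⟩)
  have hcomm₀ : ∀ a ∈ R0, ∀ b ∈ R0, ∀ w ∈ W₀, ρ a (ρ b w) = ρ b (ρ a w) := by
    intro a ha b hb w hw
    rw [← apply_mul, ← apply_mul, show a * b = ⁅a, b⁆ * (b * a) by group, apply_mul,
      hval _ (h.com a (hR0Q ha) b (hR0Q hb)) _ (hQW₀ _ (hR0Q (mul_mem hb ha)) w hw),
      hrad b hb a (hR0Q ha), one_smul]
  have hR0k : (Nat.card R0 : k) ≠ 0 := natCast_card_ne_zero hq2 (h.isPGroup.to_le hR0Q)
  -- a weight of the radical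
  obtain ⟨θ, v', hv'W, hv'0, hv'⟩ : ∃ (θ : R0 →* k) (v' : E), v' ∈ W₀ ∧ v' ≠ 0 ∧
      v' ∈ weightSpace ρ R0 θ := by
    by_cases hall : ∀ r : R0, ρ (r : M) v = v
    · exact ⟨1, v, hv, hv0, fun r => by rw [hall r, MonoidHom.one_apply, one_smul]⟩
    · push Not at hall
      obtain ⟨r, hr⟩ := hall
      obtain ⟨θ, v', h1, h2, h3, -⟩ := exists_weight ρ hR0k (fun l hl => hQW₀ l (hR0Q hl)) hcomm₀
        (l₀ := r) hv hr
      exact ⟨θ, v', h1, h2, h3⟩
  have hθχ : ∀ z (hz : z ∈ Z), θ ⟨z, hZR0 hz⟩ = χ ⟨z, hz⟩ := fun z hz =>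
    smul_left_injective k hv'0 ((hv' ⟨z, hZR0 hz⟩).symm.trans (hval z hz v' hv'W))
  have hle : weightSpace ρ R0 θ ≤ W₀ := fun w hw z => by
    rw [show (z : M) = ((⟨(z : M), hZR0 z.2⟩ : R0) : M) from rfl, hw ⟨(z : M), hZR0 z.2⟩, hθχ _ z.2]
  have hR0m : ∀ m ∈ wStab k Z χ, ∀ r ∈ R0, m * r * m⁻¹ ∈ R0 := by
    rintro m hm _ ⟨r, hr, rfl⟩
    refine ⟨⟨m * r * m⁻¹, h.normal.conj_mem _ r.2 _⟩, fun y => ?_, rfl⟩
    have hiso : P.toFun ⟨m * (⟨m⁻¹ * y * m, by
        simpa using h.normal.conj_mem _ y.2 m⁻¹⟩ : Q) * m⁻¹, h.normal.conj_mem _ (by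
        simpa using h.normal.conj_mem _ y.2 m⁻¹) _⟩ ⟨m * r * m⁻¹, h.normal.conj_mem _ r.2 _⟩ =
        P.toFun _ r := (h.conjIso χ ⟨m, hm⟩).2 _ r
    rw [hr] at hiso
    rw [← hiso]
    congr 1
    exact Subtype.ext (show (y : M) = m * (m⁻¹ * y * m) * m⁻¹ by group)
  have hx0N : x ^ 2 ^ j₀ ∈ normalizer (R0 : Set M) :=
    Conj.mem_normalizer (X := M) fun r hr => hR0m _ hx0 r hr
  have hx0e : (x ^ 2 ^ j₀) ^ 2 ^ (e - j₀) = 1 := by
    rw [← pow_mul, ← pow_add, Nat.add_sub_cancel' hj₀.le, hx]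
  obtain ⟨j₁, hj₁, hy1, hsum1⟩ := stab_step ρ hx0e hx0N hv'0 hv' fun w hw => hsum0 w (hle hw)
  have hpow2 : (x ^ 2 ^ j₀) ^ 2 ^ j₁ = x ^ 2 ^ (j₀ + j₁) := by rw [← pow_mul, ← pow_add]
  rw [hpow2] at hy1 hsum1
  have hyZ : x ^ 2 ^ (j₀ + j₁) ∈ wStab k Z χ := hpow2 ▸ pow_mem hx0 _
  refine ⟨j₀ + j₁, by omega, hyZ, ?_⟩
  set y := x ^ 2 ^ (j₀ + j₁) with hy
  set ŷ := h.act χ ⟨y, hyZ⟩ with hŷ
  rw [show e - (j₀ + j₁) = e - j₀ - j₁ by omega]
  set d := e - j₀ - j₁ with hd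
  by_cases htriv : ŷ ^ 2 ^ (d - 1) = 1
  · exact Or.inl htriv
  refine Or.inr ?_
  have hy2 : y ^ 2 ^ d = 1 := by
    rw [hy, ← pow_mul, ← pow_add, show j₀ + j₁ + d = e by omega, hx]
  -- the representation on the weight space of `θ`
  set W := weightSpace ρ R0 θ with hW
  haveI : Nontrivial W := ⟨⟨⟨v', hv'⟩, 0, fun e => hv'0 (congrArg Subtype.val e)⟩⟩
  have hQW : ∀ g ∈ Q, ∀ w ∈ W, ρ g w ∈ W := by
    intro g hg w hw r
    have hc : g⁻¹ * r * g ∈ R0 := by
      have : g⁻¹ * r * g = ⁅g⁻¹, (r : M)⁆ * r := by group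
      rw [this]
      exact mul_mem (hZR0 (h.com _ (inv_mem hg) _ (hR0Q r.2))) r.2
    rw [show ρ (r : M) (ρ g w) = ρ g (ρ (g⁻¹ * r * g) w) by
      rw [← apply_mul, ← apply_mul]; congr 2; group, hw ⟨_, hc⟩, map_smul]
    congr 1
    rw [show (⟨g⁻¹ * r * g, hc⟩ : R0) =
        ⟨⁅g⁻¹, (r : M)⁆, hZR0 (h.com _ (inv_mem hg) _ (hR0Q r.2))⟩ * r from
      Subtype.ext (show g⁻¹ * r * g = ⁅g⁻¹, (r : M)⁆ * r by group), map_mul, hθχ _ (h.com _ (inv_mem hg) _ (hR0Q r.2)),
      hrad r r.2 g⁻¹ (inv_mem hg), one_mul]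
  let π : Q →* Module.End k W :=
    { toFun := fun g => (ρ (g : M)).restrict (hQW g g.2)
      map_one' := LinearMap.ext fun w => Subtype.ext (by
        show ρ ((1 : Q) : M) (w : E) = w
        rw [OneMemClass.coe_one, map_one, Module.End.one_apply])
      map_mul' := fun a b => LinearMap.ext fun w => Subtype.ext (apply_mul ρ (a : M) (b : M) (w : E)) }
  have hyW : ∀ w ∈ W, ρ y w ∈ W := fun w hw => by
    obtain ⟨hN, hfix⟩ := hy1
    have := mapsTo_weightSpace ρ hN hw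
    rwa [hfix] at this
  let S : Module.End k W := (ρ y).restrict hyW
  have hSpow : ∀ (n : ℕ) (w : W), (((S ^ n) w : W) : E) = ρ (y ^ n) (w : E) := by
    intro n
    induction n with
    | zero => intro w; rw [pow_zero, pow_zero, map_one]; rfl
    | succ n ih => intro w; rw [pow_succ', Module.End.mul_apply, pow_succ', apply_mul, ← ih]; rfl
  let lam : P.rad →* k := θ.comp (Q.subtype.subgroupMap P.rad)
  have hlam : ∀ z : P.rad, π z = lam z • 1 := fun z => LinearMap.ext fun w => Subtype.ext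
    (w.2 ⟨((z : Q) : M), mem_map_of_mem _ z.2⟩)
  have hcomR : ∀ a b : Q, ⁅a, b⁆ ∈ P.rad := fun a b g => by
    rw [hP, h.pairing_eq_one, ← map_one χ]
    congr 1
    exact Subtype.ext (commutatorElement_eq_one_iff_mul_comm.2 (h.comm (h.com _ a.2 _ b.2) g.2))
  have hlamc : ∀ g g' : Q, lam ⟨⁅g, g'⁆, hcomR g g'⟩ = χ ⟨⁅(g : M), (g' : M)⁆, h.com _ g.2 _ g'.2⟩ :=
    fun g g' => hθχ _ (h.com _ g.2 _ g'.2)
  set σ : MulAut Q := MulAut.conjNormal y with hσ
  have hSπ : ∀ g, S * π g = π (σ g) * S := fun g => LinearMap.ext fun w => Subtype.ext (by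
    show ρ y (ρ (g : M) (w : E)) = ρ ((σ g : Q) : M) (ρ y (w : E))
    rw [← apply_mul, ← apply_mul, hσ, MulAut.conjNormal_apply, inv_mul_cancel_right])
  have hσR : P.rad.map σ.toMonoidHom = P.rad := by
    refine Subgroup.eq_of_le_of_card_ge ?_ (le_of_eq (card_map_of_injective σ.injective).symm)
    rintro _ ⟨r, hr, rfl⟩
    obtain ⟨r', hr', heq⟩ := hR0m y hyZ _ ⟨r, hr, rfl⟩
    rwa [show σ.toMonoidHom r = r' from Subtype.ext heq.symm]
  have hσl : ∀ (z : P.rad) (hz : σ z ∈ P.rad), lam ⟨σ z, hz⟩ = lam z := fun z hz =>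
    apply_eq_of_mem_wStab hy1 ⟨((z : Q) : M), mem_map_of_mem _ z.2⟩ (mem_map_of_mem Q.subtype hz)
  have hSr : S ^ 2 ^ d = 1 := LinearMap.ext fun w => Subtype.ext (by
    rw [hSpow, hy2, map_one]; rfl)
  have hnil : (S - 1) ^ (2 ^ d - 1) = 0 := by
    rw [HallHigman.sub_one_pow_eq_sum (p := 2) S d]
    refine LinearMap.ext fun w => Subtype.ext ?_
    rw [LinearMap.sum_apply, Submodule.coe_sum, LinearMap.zero_apply, Submodule.coe_zero]
    simp only [hSpow]
    rw [hd]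
    exact hsum1 w w.2
  have hcomm : HallHigman.commutant (S - 1) = HallHigman.commutant S := by
    ext f
    rw [HallHigman.mem_commutant, HallHigman.mem_commutant, sub_mul, mul_sub, one_mul, mul_one,
      sub_left_inj]
  have hmain := HallHigman.sq_finrank_le_of_nilpotent _ _ hnil
  rw [hcomm] at hmain
  -- orbits
  haveI : Finite P.Space := inferInstanceAs (Finite (Additive (Q ⧸ P.rad)))
  haveI := Fintype.ofFinite (MulAction.orbitRel.Quotient (zpowers ŷ) P.Space)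
  have hbound := index_le_of_orbits (r := 2 ^ d) (Nat.two_pow_pos d)
    (natCast_card_ne_zero hq2 h.isPGroup) π P.rad lam hlam
    (fun a b => mem_center_iff.2 fun g => Subtype.ext (h.comm (h.com _ a.2 _ b.2) g.2))
    hcomR
    (fun g hg g' => (h.pairing_eq_one χ g' g).2 ((hlamc g' g).symm.trans (hg g')))
    σ hσR hσl S hSr hSπ hmain
    (fun ω : MulAction.orbitRel.Quotient (zpowers ŷ) P.Space => Function.surjInv P.cls_surjective ω.out)
    (fun g => by
      obtain ⟨⟨a, ha⟩, hag⟩ : P.cls g ∈ MulAction.orbit (zpowers ŷ)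
          (Quotient.mk'' (P.cls g) : MulAction.orbitRel.Quotient (zpowers ŷ) P.Space).out :=
        (MulAction.orbitRel (zpowers ŷ) P.Space).symm
          (Quotient.mk_out (s := MulAction.orbitRel (zpowers ŷ) P.Space) (P.cls g))
      obtain ⟨i, rfl⟩ := mem_powers_iff_mem_zpowers.2 ha
      refine ⟨Quotient.mk'' (P.cls g), i, ?_⟩
      have key : ∀ (n : ℕ) (z : Q), ŷ ^ n • P.cls z = P.cls ((σ ^ n) z) := by
        intro n
        induction n with
        | zero => intro z; rw [pow_zero, one_smul, pow_zero]; rfl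
        | succ n ih =>
          intro z
          rw [pow_succ', mul_smul, ih, pow_succ', MulAut.mul_apply, hŷ, h.act_cls]
          rfl
      have hag' : ŷ ^ i • (Quotient.mk'' (P.cls g) :
          MulAction.orbitRel.Quotient (zpowers ŷ) P.Space).out = P.cls g := hag
      rw [← Function.surjInv_eq P.cls_surjective
        (Quotient.mk'' (P.cls g) : MulAction.orbitRel.Quotient (zpowers ŷ) P.Space).out, key] at hag'
      exact QuotientGroup.eq.1 hag')
  rw [← P.card_space] at hbound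
  exact isRot_of_orbits q (rootsOfUnity q k).subtype.toAdditive
    (fun a b hab => Additive.toMul.injective (Subtype.val_injective hab))
    P.form_self P.form_nondeg (QPairing.no_two_torsion hq2) hq2 (h.act_iso χ _)
    (by rw [← map_pow, show (⟨y, hyZ⟩ : wStab k Z χ) ^ 2 ^ d = 1 from Subtype.ext hy2, map_one])
    htriv (by omega) hbound

end Cfsg.Agent.GrossTwoLength
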