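import Cfsg.Agent.Lib.GrossTwoLength.Bound
import Cfsg.Agent.Lib.PCore.UpperSeries
import Cfsg.Agent.Lib.PCore.HallHigman
import Cfsg.Agent.Lib.Components.Fitting
import Cfsg.Agent.Lib.Subnormal.Nilpotent

/-!
# Gross: a faithful solvable group in characteristic two

`M` solvable, `O_2(M) = 1`, faithful in characteristic two, every 2-element `x` has `x ^ 2 ^ e = 1`
and `1 + x + ⋯ + x ^ (2 ^ e - 1) = 0`. Then `x ^ 2 ^ (e-1) ∈ O_{2',2}(M)`.
-/

set_option autoImplicit false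
set_option linter.unusedSectionVars false
set_option linter.style.haveILetI false

namespace Cfsg.Agent.GrossTwoLength

open Subgroup
open FittingHeight (weightSpace wStab centralizer_le_wStab)
open scoped commutatorElement

theorem eq_one_of_inverted {X : Type*} [Group X] {ℓ : ℕ} [Fact ℓ.Prime] (hℓ : ℓ ≠ 2) {c : X} {m : ℕ}
    (hc : c ^ ℓ ^ m = 1) (h2 : c * c = 1) : c = 1 := by
  refine orderOf_eq_one_iff.1 (Nat.eq_one_of_dvd_coprimes
    (((Nat.coprime_primes (Fact.out : ℓ.Prime) Nat.prime_two).2 hℓ).pow_left m)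
    (orderOf_dvd_of_pow_eq_one hc) (orderOf_dvd_of_pow_eq_one (n := 2) ?_))
  rw [pow_two, h2]

theorem map_eq_of_isPGroup_image {G H : Type*} [Group G] [Group H] [Finite G] {p : ℕ} [Fact p.Prime]
    (f : G →* H) (hf : Function.Surjective f) (hH : IsPGroup p H) (S : Sylow p G) :
    (S : Subgroup G).map f = ⊤ := by
  have h := ((S.mapSurjective hf).is_maximal' (hH.to_subgroup ⊤) le_top).symm
  rwa [Sylow.coe_mapSurjective] at h

variable {M : Type*} [Group M] [Finite M] [Group.IsSolvable M] {k : Type*} [Field k] [IsAlgClosed k]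
  [CharP k 2] {E : Type*} [AddCommGroup E] [Module k E] [FiniteDimensional k E]
  (ρ : M →* Module.End k E)

include ρ in
theorem tau_mem_pPrimePCore (hfaith : ∀ m : M, ρ m = 1 → m = 1) (hO : pCore 2 M = ⊥) {e : ℕ}
    (he : 1 ≤ e)
    (hall : ∀ (x : M) (n : ℕ), x ^ 2 ^ n = 1 → x ^ 2 ^ e = 1 ∧ CyclicSumZero ρ x e ⊤)
    {x₀ : M} {a₀ : ℕ} (hx₀ : x₀ ^ 2 ^ a₀ = 1) : x₀ ^ 2 ^ (e - 1) ∈ pPrimePCore 2 M := by
  classical
  haveI : Fact (Nat.Prime 2) := ⟨Nat.prime_two⟩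
  set N := pPrimeCore 2 M with hN
  set K := pPrimePCore 2 M with hK
  haveI hKn : K.Normal := PCore.pPrimePCore_normal
  set π := QuotientGroup.mk' K with hπ
  have hπs : Function.Surjective π := QuotientGroup.mk'_surjective K
  haveI : Group.IsSolvable (M ⧸ K) := inferInstance
  -- `O_2(M/K) = 1`
  have hX2 : pCore 2 (M ⧸ K) = ⊥ := by
    let f : M ⧸ N →* M ⧸ K := QuotientGroup.map N K (MonoidHom.id M) PCore.pPrimeCore_le_pPrimePCore
    have hfs : Function.Surjective f := fun u => by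
      obtain ⟨m, rfl⟩ := hπs u
      exact ⟨(m : M ⧸ N), rfl⟩
    have hker : f.ker ≤ pCore 2 (M ⧸ N) := by
      intro u hu
      obtain ⟨m, rfl⟩ := QuotientGroup.mk'_surjective N u
      have hm : m ∈ K := (QuotientGroup.eq_one_iff m).1 hu
      exact hm
    haveI : ((pCore 2 (M ⧸ K)).comap f).Normal := Normal.comap inferInstance f
    have hp : IsPGroup 2 ((pCore 2 (M ⧸ K)).comap f) :=
      (PCore.isPGroup_pCore (p := 2) (G := M ⧸ K)).comap_of_ker_isPGroup f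
        ((PCore.isPGroup_pCore (p := 2) (G := M ⧸ N)).to_le hker)
    refine (eq_bot_iff_forall _).2 fun u hu => ?_
    obtain ⟨w, rfl⟩ := hfs u
    obtain ⟨m, rfl⟩ := QuotientGroup.mk'_surjective N w
    have hm : m ∈ K := PCore.le_pCore hp hu
    exact (QuotientGroup.eq_one_iff m).2 hm
  -- it is enough to centralise every `O_r(M/K)`
  suffices hsuff : ∀ r : ℕ, r.Prime → r ≠ 2 → ∀ g : M, π g ∈ pCore r (M ⧸ K) →
      Commute (π (x₀ ^ 2 ^ (e - 1))) (π g) by
    have hC : π (x₀ ^ 2 ^ (e - 1)) ∈ centralizer (fittingSubgroup (M ⧸ K) : Set (M ⧸ K)) := by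
      have hle : fittingSubgroup (M ⧸ K) ≤
          centralizer ({π (x₀ ^ 2 ^ (e - 1))} : Set (M ⧸ K)) := by
        rw [Components.fittingSubgroup_eq_iSup_pCore]
        refine iSup_le fun ⟨r, hr⟩ => ?_
        rcases eq_or_ne r 2 with rfl | hr2
        · simp only [hX2, bot_le]
        intro u hu
        obtain ⟨g, rfl⟩ := hπs u
        exact mem_centralizer_singleton_iff.2
          (hsuff r (Nat.prime_of_mem_primeFactors hr) hr2 g hu).eq.symm
      exact mem_centralizer_iff.2 fun u hu => mem_centralizer_singleton_iff.1 (hle hu)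
    have h2 : π (x₀ ^ 2 ^ (e - 1)) ∈ pCore 2 (M ⧸ K) :=
      Subnormal.mem_pCore_of_mem_fittingSubgroup (k := a₀)
        (Components.centralizer_fittingSubgroup_le hC)
        (by rw [← map_pow, ← pow_mul, mul_comm, pow_mul, hx₀, one_pow, map_one])
    rw [hX2, mem_bot] at h2
    exact (QuotientGroup.eq_one_iff _).1 h2
  intro r hr hr2 g₀ hg₀
  haveI := Fact.mk hr
  -- the 2-group `U` and the `r`-group `R0`
  obtain ⟨PK⟩ := (inferInstance : Nonempty (Sylow 2 K))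
  set U := (PK : Subgroup K).map K.subtype with hUdef
  have hU2 : IsPGroup 2 U := PK.2.map _
  have hUK : U ≤ K := map_subtype_le _
  set M1 := normalizer (U : Set M) with hM1
  have hdecK : ∀ m : M, ∃ n ∈ M1, ∃ b ∈ K, m = n * b := fun m => by
    obtain ⟨n, hn, b, hb, hnb⟩ := (mem_sup_of_normal_right (s := M1) (t := K)).1
      ((Sylow.normalizer_sup_eq_top PK).ge (mem_top m))
    exact ⟨n, hn, b, hb, hnb.symm⟩
  have hπK : ∀ b ∈ K, π b = 1 := fun b hb => (QuotientGroup.eq_one_iff b).2 hb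
  set P1 := (pCore r (M ⧸ K)).comap π with hP1
  haveI hP1n : P1.Normal := Normal.comap inferInstance π
  set N1 := P1.subgroupOf M1 with hN1
  haveI hN1n : N1.Normal := hP1n.comap _
  obtain ⟨S⟩ := (inferInstance : Nonempty (Sylow r N1))
  set R0' := (S : Subgroup N1).map N1.subtype with hR0'
  set R0 := R0'.map M1.subtype with hR0
  have hR0r : IsPGroup r R0 := (S.2.map _).map _
  have hR0M1 : R0 ≤ M1 := map_subtype_le _
  let fN : N1 →* pCore r (M ⧸ K) :=
    (π.comp (M1.subtype.comp N1.subtype)).codRestrict (pCore r (M ⧸ K)) fun a => a.2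
  have hfN : Function.Surjective fN := by
    rintro ⟨u, hu⟩
    obtain ⟨m, rfl⟩ := hπs u
    obtain ⟨n, hn, b, hb, rfl⟩ := hdecK m
    have hu' : n ∈ P1 := by
      show π n ∈ pCore r (M ⧸ K)
      rwa [map_mul, hπK b hb, mul_one] at hu
    exact ⟨⟨⟨n, hn⟩, hu'⟩, Subtype.ext (by
      show π n = π (n * b)
      rw [map_mul, hπK b hb, mul_one])⟩
  have hrep : ∀ m : M, π m ∈ pCore r (M ⧸ K) → ∃ g ∈ R0, π g = π m := by
    intro m hm
    obtain ⟨a, ha, haf⟩ :=
      (map_eq_of_isPGroup_image fN hfN PCore.isPGroup_pCore S).ge (mem_top ⟨π m, hm⟩)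
    exact ⟨((a : M1) : M), ⟨a, ⟨a, ha, rfl⟩, rfl⟩, congrArg Subtype.val haf⟩
  -- an element normalising `U` and `R0` with the same image
  obtain ⟨x, ⟨a, hxa⟩, hπx, hxU, hxR⟩ : ∃ x : M, (∃ a : ℕ, x ^ 2 ^ a = 1) ∧ π x = π x₀ ∧
      x ∈ M1 ∧ Conj x R0 := by
    obtain ⟨n, hn, b, hb, hnb⟩ := hdecK x₀
    obtain ⟨n', hn', p, hp, hnp⟩ := (mem_sup_of_normal_right
      (s := normalizer (R0' : Set M1)) (t := N1)).1
      ((Sylow.normalizer_sup_eq_top S).ge (mem_top (⟨n, hn⟩ : M1)))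
    obtain ⟨g1, hg1, hπg1⟩ := hrep (p : M) hp
    obtain ⟨g1', hg1', hg1eq⟩ := hg1
    set n0 := n' * g1' with hn0
    have hn0R : n0 ∈ normalizer (R0' : Set M1) := mul_mem hn' (le_normalizer hg1')
    have hπn0 : π (n0 : M) = π x₀ := by
      have hg1v : ((g1' : M1) : M) = g1 := hg1eq
      rw [hn0, Subgroup.coe_mul, map_mul, hg1v, hπg1, ← map_mul, ← Subgroup.coe_mul, hnp, hnb,
        map_mul, hπK b hb, mul_one]
    obtain ⟨a, b', hb', hord⟩ := Nat.exists_eq_pow_mul_and_not_dvd (orderOf_pos n0).ne' 2 (by norm_num)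
    have hco : Nat.Coprime b' (orderOf (π x₀)) :=
      ((Nat.coprime_two_right.2 (Nat.odd_iff.2 (by omega))).pow_right a₀).coprime_dvd_right
        ((orderOf_map_dvd π x₀).trans (orderOf_dvd_of_pow_eq_one hx₀))
    obtain ⟨c, hc⟩ := exists_pow_eq_self_of_coprime hco
    refine ⟨(((n0 ^ b') ^ c : M1) : M), ⟨a, ?_⟩, ?_, ((n0 ^ b') ^ c).2, ?_⟩
    · rw [← SubmonoidClass.coe_pow, ← OneMemClass.coe_one M1]
      congr 1
      rw [← pow_mul, ← pow_mul, show b' * (c * 2 ^ a) = orderOf n0 * c by rw [hord]; ring, pow_mul,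
        pow_orderOf_eq_one, one_pow]
    · rw [SubmonoidClass.coe_pow, SubmonoidClass.coe_pow, map_pow, map_pow, hπn0, hc]
    · rintro _ ⟨w, hw, rfl⟩
      exact ⟨((n0 ^ b') ^ c) * w * ((n0 ^ b') ^ c)⁻¹,
        (mem_normalizer_iff.1 (pow_mem (pow_mem hn0R b') c) w).1 hw, rfl⟩
  obtain ⟨g, hgR, hπg⟩ := hrep g₀ hg₀
  rw [← hπg, map_pow, ← hπx, ← map_pow]
  set τ := x ^ 2 ^ (e - 1) with hτ
  obtain ⟨hxe, hxsum⟩ := hall x a hxa
  have hττ : τ * τ = 1 := by
    rw [hτ, ← pow_add, ← mul_two, ← pow_succ, Nat.sub_add_cancel he, hxe]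
  have hτinv : τ⁻¹ = τ := inv_eq_of_mul_eq_one_left hττ
  have hτR : Conj τ R0 := hxR.pow _
  set c := g⁻¹ * τ * g * τ⁻¹ with hcdef
  have hcR : c ∈ R0 := by
    rw [hcdef, show g⁻¹ * τ * g * τ⁻¹ = g⁻¹ * (τ * g * τ⁻¹) by group]
    exact mul_mem (inv_mem hgR) (hτR g hgR)
  set L := normalClosure ({τ} : Set M) with hL
  haveI : L.Normal := normalClosure_normal
  have hτL : τ ∈ L := subset_normalClosure rfl
  have hcL : c ∈ L := by
    rw [hcdef]
    refine mul_mem ?_ (inv_mem hτL)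
    simpa using (inferInstance : L.Normal).conj_mem τ hτL g⁻¹
  suffices hcK : π c = 1 by
    rw [hcdef, map_mul, map_mul, map_mul, map_inv, map_inv, mul_inv_eq_one, mul_assoc,
      inv_mul_eq_iff_eq_mul] at hcK
    exact hcK
  obtain ⟨mc, hmc⟩ : ∃ m, c ^ r ^ m = 1 := by
    obtain ⟨m, hm⟩ := hR0r ⟨c, hcR⟩
    exact ⟨m, congrArg Subtype.val hm⟩
  have hτc : τ * c * τ⁻¹ = c⁻¹ := by
    rw [hcdef]
    simp only [mul_inv_rev, inv_inv, hτinv, mul_assoc]
    rw [hττ, mul_one]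
  -- `L` fixes every weight
  have hLab : ∀ (q : ℕ), q.Prime → q ≠ 2 → ∀ A : Subgroup M, A.Normal → IsMulCommutative A →
      IsPGroup q A → L ≤ centralizer (A : Set M) := by
    intro q hq hq2 A hA hAc hAq
    haveI := Fact.mk hq
    haveI := hA
    refine normalClosure_le_normal (Set.singleton_subset_iff.2 ?_)
    exact tau_centralizes ρ hfaith hxe hxsum (natCast_card_ne_zero hq2 hAq)
  have hLst : ∀ (q : ℕ), q.Prime → q ≠ 2 → ∀ {Q Z : Subgroup M}, ClassTwo q Q Z → ∀ χ : Z →* k,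
      L ≤ wStab k Z χ := by
    intro q hq hq2 Q Z h χ
    exact (hLab q hq hq2 Z h.normal_centre ⟨⟨fun a b => Subtype.ext
      (h.comm b.2 (h.le a.2))⟩⟩ (h.isPGroup.to_le h.le)).trans (centralizer_le_wStab χ)
  have hR0L : IsPGroup r (R0 ⊓ L : Subgroup M) := hR0r.to_le inf_le_left
  have hxL : ∀ j : ℕ, Conj (x ^ j) (R0 ⊓ L) := fun j u hu =>
    ⟨hxR.pow j u hu.1, (inferInstance : L.Normal).conj_mem u hu.2 _⟩
  -- step A
  have stepA : ∀ q : ℕ, q.Prime → q ≠ 2 → q ≠ r → c ∈ centralizer (pCore q M : Set M) := by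
    intro q hq hq2 hqr
    haveI := Fact.mk hq
    have hco : (orderOf c).Coprime q :=
      (((Nat.coprime_primes hr hq).2 (Ne.symm hqr)).pow_left mc).coprime_dvd_left
        (orderOf_dvd_of_pow_eq_one hmc)
    refine centralizes_of_weights ρ (natCast_ne_zero_two hq2) hfaith hco
      (fun A hA hAc hAq => hLab q hq hq2 A hA hAc hAq hcL) ?_ (pCore q M) inferInstance
      PCore.isPGroup_pCore
    intro Q Z h χ v hv0 hv y' x' hy' hx'
    obtain ⟨j, hj, hm, hcase⟩ := exists_rot ρ hq2 h χ hv0 hv hxe hxsum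
    have hcS : c ∈ wStab k Z χ := hLst q hq hq2 h χ hcL
    refine h.val_eq_one_of_act χ (m := ⟨c, hcS⟩) ?_ hy' hx'
    set ĉ := h.act χ ⟨c, hcS⟩ with hĉ
    set ŷ := h.act χ ⟨x ^ 2 ^ j, hm⟩ with hŷ
    have hτS : τ ∈ wStab k Z χ := hLst q hq hq2 h χ hτL
    have hτy : ŷ ^ 2 ^ (e - j - 1) = h.act χ ⟨τ, hτS⟩ := by
      rw [hŷ, ← map_pow]
      congr 1
      refine Subtype.ext ?_
      show (x ^ 2 ^ j) ^ 2 ^ (e - j - 1) = τ
      rw [hτ, ← pow_mul, ← pow_add, show j + (e - j - 1) = e - 1 by omega]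
    have hinv : ŷ ^ 2 ^ (e - j - 1) * ĉ * (ŷ ^ 2 ^ (e - j - 1))⁻¹ = ĉ⁻¹ := by
      rw [hτy, hĉ, ← map_inv, ← map_inv, ← map_mul, ← map_mul]
      congr 1
      exact Subtype.ext hτc
    have hĉr : ĉ ^ r ^ mc = 1 := by
      rw [hĉ, ← map_pow, show (⟨c, hcS⟩ : wStab k Z χ) ^ r ^ mc = 1 from Subtype.ext hmc, map_one]
    refine eq_one_of_inverted hr2 hĉr ?_
    have hcommute : ŷ ^ 2 ^ (e - j - 1) * ĉ = ĉ * ŷ ^ 2 ^ (e - j - 1) := by
      rcases hcase with h1 | ⟨hd, hqd, hrot⟩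
      · rw [h1, one_mul, mul_one]
      · have G := h.form_geo χ hq2 hd hqd
        haveI : Finite (h.pairing χ).Space := inferInstanceAs (Finite (Additive (Q ⧸ (h.pairing χ).rad)))
        let Γ := ((R0 ⊓ L).subgroupOf (wStab k Z χ)).map (h.act χ)
        refine FittingHeight.Plane.centralizes (β := (h.pairing χ).form) G.alt G.nd G.noTwo hq2 hd hqd
          hrot.iso (hrot.tau_sq G) (plane (e - j) ŷ) (fun w => mem_plane) hrot.card hr2 (Ne.symm hqr) Γ
          ?_ ?_ ?_ ĉ ⟨⟨c, hcS⟩, ⟨hcR, hcL⟩, rfl⟩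
        · exact hR0L.comap_subtype.map _
        · rintro _ ⟨m, -, rfl⟩
          exact h.act_iso χ m
        · rintro _ ⟨m, hmm, rfl⟩
          refine ⟨⟨x ^ 2 ^ j, hm⟩ * m * ⟨x ^ 2 ^ j, hm⟩⁻¹, hxL _ _ hmm, ?_⟩
          rw [map_mul, map_mul, map_inv]
    have := hinv
    rw [hcommute, mul_inv_cancel_right] at this
    rw [← inv_eq_iff_mul_eq_one, ← this]
  -- step B
  have hUL2 : IsPGroup 2 (U ⊓ L : Subgroup M) := hU2.to_le inf_le_left
  have hgU : g ∈ M1 := hR0M1 hgR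
  have hconjUL : ∀ m ∈ M1, Conj m (U ⊓ L) := fun m hm u hu =>
    ⟨(mem_normalizer_iff.1 hm u).1 hu.1, (inferInstance : L.Normal).conj_mem u hu.2 m⟩
  have hcU : c ∈ M1 := hR0M1 hcR
  have stepB : ∀ u ∈ U ⊓ L, u * c * u⁻¹ * c⁻¹ = 1 := by
    intro u hu
    set s := u * c * u⁻¹ * c⁻¹ with hs
    have hsU : s ∈ U := by
      rw [hs, show u * c * u⁻¹ * c⁻¹ = u * (c * u⁻¹ * c⁻¹) by group]
      exact mul_mem hu.1 ((mem_normalizer_iff.1 hcU _).1 (inv_mem hu.1))
    obtain ⟨ms, hms⟩ : ∃ m, s ^ 2 ^ m = 1 := by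
      obtain ⟨m, hm⟩ := hU2 ⟨s, hsU⟩
      exact ⟨m, congrArg Subtype.val hm⟩
    have hsL : s ∈ L := mul_mem (mul_mem (mul_mem hu.2 hcL) (inv_mem hu.2)) (inv_mem hcL)
    -- the prime `r` itself
    have hsr : s ∈ centralizer (pCore r M : Set M) := by
      have hco : (orderOf s).Coprime r :=
        (((Nat.coprime_primes Nat.prime_two hr).2 (Ne.symm hr2)).pow_left ms).coprime_dvd_left
          (orderOf_dvd_of_pow_eq_one hms)
      refine centralizes_of_weights ρ (natCast_ne_zero_two hr2) hfaith hco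
        (fun A hA hAc hAq => hLab r hr hr2 A hA hAc hAq hsL) ?_ (pCore r M) inferInstance
        PCore.isPGroup_pCore
      intro Q Z h χ v hv0 hv y' x' hy' hx'
      have hst := hLst r hr hr2 h χ
      refine h.val_eq_one_of_act χ (m := ⟨s, hst hsL⟩) ?_ hy' hx'
      set û := h.act χ ⟨u, hst hu.2⟩ with hû
      set ĉ := h.act χ ⟨c, hst hcL⟩ with hĉ
      suffices hcu : Commute ĉ û by
        rw [show (⟨s, hst hsL⟩ : wStab k Z χ) =
          ⟨u, hst hu.2⟩ * ⟨c, hst hcL⟩ * ⟨u, hst hu.2⟩⁻¹ * ⟨c, hst hcL⟩⁻¹ from Subtype.ext rfl,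
          map_mul, map_mul, map_mul, map_inv, map_inv, ← hû, ← hĉ, ← hcu.eq]
        group
      by_cases hc1 : ĉ = 1
      · rw [hc1]; exact Commute.one_left _
      have hĉr : ĉ ^ r ^ mc = 1 := by
        rw [hĉ, ← map_pow, show (⟨c, hst hcL⟩ : wStab k Z χ) ^ r ^ mc = 1 from Subtype.ext hmc,
          map_one]
      -- the conjugate
      set x2 := g⁻¹ * x * g with hx2
      have hx2pow : ∀ n : ℕ, x2 ^ n = g⁻¹ * x ^ n * g := fun n => by
        rw [hx2, show g⁻¹ * x * g = g⁻¹ * x * g⁻¹⁻¹ by group, conj_pow]; group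
      obtain ⟨hx2e, hx2sum⟩ := hall x2 a (by rw [hx2pow, hxa, mul_one, inv_mul_cancel])
      obtain ⟨j, hj, hm, hcase⟩ := exists_rot ρ hr2 h χ hv0 hv hxe hxsum
      obtain ⟨j2, hj2, hm2, hcase2⟩ := exists_rot ρ hr2 h χ hv0 hv hx2e hx2sum
      set ŷ := h.act χ ⟨x ^ 2 ^ j, hm⟩ with hŷ
      set zh := h.act χ ⟨x2 ^ 2 ^ j2, hm2⟩ with hzh
      have hτ2L : g⁻¹ * τ * g ∈ L := by
        simpa using (inferInstance : L.Normal).conj_mem τ hτL g⁻¹
      have hτy : ŷ ^ 2 ^ (e - j - 1) = h.act χ ⟨τ, hst hτL⟩ := by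
        rw [hŷ, ← map_pow]
        congr 1
        refine Subtype.ext ?_
        show (x ^ 2 ^ j) ^ 2 ^ (e - j - 1) = τ
        rw [hτ, ← pow_mul, ← pow_add, show j + (e - j - 1) = e - 1 by omega]
      have hτz : zh ^ 2 ^ (e - j2 - 1) = h.act χ ⟨g⁻¹ * τ * g, hst hτ2L⟩ := by
        rw [hzh, ← map_pow]
        congr 1
        refine Subtype.ext ?_
        show (x2 ^ 2 ^ j2) ^ 2 ^ (e - j2 - 1) = g⁻¹ * τ * g
        rw [← pow_mul, ← pow_add, show j2 + (e - j2 - 1) = e - 1 by omega, hx2pow, hτ]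
      have hĉe : ĉ = zh ^ 2 ^ (e - j2 - 1) * (ŷ ^ 2 ^ (e - j - 1))⁻¹ := by
        rw [hτy, hτz, hĉ, ← map_inv, ← map_mul]
        exact congrArg _ (Subtype.ext (show c = g⁻¹ * τ * g * τ⁻¹ from hcdef))
      have hsq : ∀ {m : M} (hm : m ∈ wStab k Z χ), m * m = 1 →
          h.act χ ⟨m, hm⟩ * h.act χ ⟨m, hm⟩ = 1 := fun hm h2 => by
        rw [← map_mul, show (⟨_, hm⟩ : wStab k Z χ) * ⟨_, hm⟩ = 1 from Subtype.ext h2, map_one]
      rcases hcase with h1 | ⟨hd, hqd, hrot⟩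
      · exfalso
        refine hc1 (eq_one_of_inverted hr2 hĉr ?_)
        rw [hĉe, h1, inv_one, mul_one, hτz]
        refine hsq _ ?_
        rw [show g⁻¹ * τ * g * (g⁻¹ * τ * g) = g⁻¹ * (τ * τ) * g by group, hττ, mul_one,
          inv_mul_cancel]
      rcases hcase2 with h1 | ⟨hd2, hqd2, hrot2⟩
      · exfalso
        refine hc1 (eq_one_of_inverted hr2 hĉr ?_)
        rw [hĉe, h1, one_mul, hτy, ← map_inv, ← map_mul]
        rw [show (⟨τ, hst hτL⟩ : wStab k Z χ)⁻¹ * ⟨τ, hst hτL⟩⁻¹ = 1 from Subtype.ext (by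
          show τ⁻¹ * τ⁻¹ = 1
          rw [← mul_inv_rev, hττ, inv_one]), map_one]
      have hdd : e - j2 = e - j := Nat.pow_right_injective le_rfl (hqd2.symm.trans hqd)
      rw [hdd] at hĉe hrot2
      have G := h.form_geo χ hr2 hd hqd
      haveI : Finite (h.pairing χ).Space := inferInstanceAs (Finite (Additive (Q ⧸ (h.pairing χ).rad)))
      let ΓU := ((U ⊓ L).subgroupOf (wStab k Z χ)).map (h.act χ)
      let ΓR := ((R0 ⊓ L).subgroupOf (wStab k Z χ)).map (h.act χ)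
      have hconj : ∀ (A : Subgroup M) (m : M) (hm : m ∈ wStab k Z χ), Conj m A →
          Conj (h.act χ ⟨m, hm⟩) ((A.subgroupOf (wStab k Z χ)).map (h.act χ)) := by
        rintro A m hm hA _ ⟨w, hw, rfl⟩
        refine ⟨⟨m, hm⟩ * w * ⟨m, hm⟩⁻¹, hA _ hw, ?_⟩
        rw [map_mul, map_mul, map_inv]
      have hxU' : ∀ n, x ^ n ∈ M1 := fun n => pow_mem hxU n
      have hx2U : ∀ n, x2 ^ n ∈ M1 := fun n =>
        pow_mem (mul_mem (mul_mem (inv_mem hgU) hxU) hgU) n
      have hx2R : Conj x2 R0 := by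
        rw [hx2]
        intro w hw
        have h1 := hxR _ (mul_mem (mul_mem hgR hw) (inv_mem hgR))
        have h2 := mul_mem (mul_mem (inv_mem hgR) h1) hgR
        rwa [show g⁻¹ * (x * (g * w * g⁻¹) * x⁻¹) * g = g⁻¹ * x * g * w * (g⁻¹ * x * g)⁻¹ by group]
          at h2
      have key := rotation_commute G (U := ΓU) (R := ΓR) (hUL2.comap_subtype.map _)
        (by rintro _ ⟨m, -, rfl⟩; exact h.act_iso χ m) (hR0L.comap_subtype.map _)
        (by
          rintro _ ⟨m, hmR, rfl⟩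
          exact hconj (U ⊓ L) (m : M) m.2 (hconjUL _ (hR0M1 hmR.1)))
        hrot hrot2 (hconj (U ⊓ L) _ hm (hconjUL _ (hxU' _)))
        (hconj (U ⊓ L) _ hm2 (hconjUL _ (hx2U _))) (hconj (R0 ⊓ L) _ hm (hxL _))
        (hconj (R0 ⊓ L) _ hm2 (fun w hw =>
          ⟨hx2R.pow _ w hw.1, (inferInstance : L.Normal).conj_mem w hw.2 _⟩))
        (by
          refine ⟨⟨c, hst hcL⟩⁻¹, inv_mem (show c ∈ R0 ⊓ L from ⟨hcR, hcL⟩), ?_⟩
          rw [map_inv, ← hĉ, hĉe, mul_inv_rev, inv_inv]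
          congr 1
          exact hrot2.tau_inv G)
        (v := û) ⟨⟨u, hst hu.2⟩, hu, rfl⟩
      have hĉinv : ĉ⁻¹ = tau (e - j) ŷ * tau (e - j) zh := by
        rw [hĉe, mul_inv_rev, inv_inv]
        congr 1
        exact hrot2.tau_inv G
      rw [← hĉinv] at key
      exact Commute.inv_left_iff.1 key
    -- all the primes
    have hsF : s ∈ centralizer (fittingSubgroup M : Set M) := by
      have hle : fittingSubgroup M ≤ centralizer ({s} : Set M) := by
        rw [Components.fittingSubgroup_eq_iSup_pCore]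
        refine iSup_le fun ⟨q, hq⟩ => ?_
        rcases eq_or_ne q 2 with rfl | hq2
        · simp only [hO, bot_le]
        have hmem : s ∈ centralizer (pCore q M : Set M) := by
          rcases eq_or_ne q r with rfl | hqr
          · exact hsr
          · have hc' := stepA q (Nat.prime_of_mem_primeFactors hq) hq2 hqr
            haveI : (centralizer (pCore q M : Set M)).Normal := inferInstance
            rw [hs]
            exact mul_mem ((inferInstance : (centralizer (pCore q M : Set M)).Normal).conj_mem c hc' u)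
              (inv_mem hc')
        exact fun w hw => mem_centralizer_singleton_iff.2 (mem_centralizer_iff.1 hmem w hw)
      exact mem_centralizer_iff.2 fun w hw => mem_centralizer_singleton_iff.1 (hle hw)
    have := Subnormal.mem_pCore_of_mem_fittingSubgroup (Components.centralizer_fittingSubgroup_le hsF) hms
    rwa [hO, mem_bot] at this
  -- `c` centralises `U`
  have hcentU : ∀ u ∈ U, c * u = u * c := by
    intro u hu
    set d := u⁻¹ * (c * u * c⁻¹) with hd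
    have hdU : d ∈ U := mul_mem (inv_mem hu) ((mem_normalizer_iff.1 hcU u).1 hu)
    have hdL : d ∈ L := by
      rw [hd, show u⁻¹ * (c * u * c⁻¹) = u⁻¹ * c * u⁻¹⁻¹ * c⁻¹ by group]
      exact mul_mem ((inferInstance : L.Normal).conj_mem c hcL u⁻¹) (inv_mem hcL)
    obtain ⟨md, hmd⟩ := hU2 ⟨d, hdU⟩
    have hcomm : c * d = d * c := by
      have h1 := stepB d ⟨hdU, hdL⟩
      rw [mul_inv_eq_one, mul_inv_eq_iff_eq_mul] at h1
      exact h1.symm
    have h1 : d = 1 := FittingHeight.eq_one_of_conj_eq_mul (x := u) (c := c)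
      (((((Nat.coprime_primes Nat.prime_two hr).2 (Ne.symm hr2)).pow md mc).coprime_dvd_left
        (orderOf_dvd_of_pow_eq_one (congrArg Subtype.val hmd))).coprime_dvd_right
        (orderOf_dvd_of_pow_eq_one hmc))
      (by rw [hd, mul_inv_cancel_left]) hcomm
    rw [hd, inv_mul_eq_one] at h1
    exact mul_inv_eq_iff_eq_mul.1 h1.symm
  -- hence `c ∈ K`
  refine hπK c ?_
  have hC : (c : M ⧸ N) ∈ centralizer (pCore 2 (M ⧸ N) : Set (M ⧸ N)) := by
    refine mem_centralizer_iff.2 fun u hu => ?_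
    let f : K →* pCore 2 (M ⧸ N) :=
      ((QuotientGroup.mk' N).comp K.subtype).codRestrict (pCore 2 (M ⧸ N)) fun b => b.2
    have hfs : Function.Surjective f := by
      rintro ⟨w, hw⟩
      obtain ⟨m, rfl⟩ := QuotientGroup.mk'_surjective N w
      exact ⟨⟨m, hw⟩, rfl⟩
    obtain ⟨b, hb, hbu⟩ :=
      (map_eq_of_isPGroup_image f hfs PCore.isPGroup_pCore PK).ge (mem_top ⟨u, hu⟩)
    have hbv : ((b : M) : M ⧸ N) = u := congrArg Subtype.val hbu
    rw [← hbv, ← QuotientGroup.mk_mul, ← QuotientGroup.mk_mul,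
      hcentU (b : M) ⟨b, hb, rfl⟩]
  exact PCore.centralizer_pCore_le_of_isSolvable PCore.pPrimeCore_quotient_self_eq_bot hC

end Cfsg.Agent.GrossTwoLength
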