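import Cfsg.Agent.Lib.GrossTwoLength.Main
import Cfsg.Agent.Lib.FittingHeight.Reduction
import Cfsg.Agent.Lib.HallHigman.Linear
import Cfsg.Agent.Lib.PCore.PLength
import Cfsg.Agent.Lib.PCore.Faithful
import Cfsg.Agent.Lib.PCore.PSolvable

/-!
# Gross: the 2-length of a solvable group whose Sylow 2-subgroups have exponent `2 ^ e`
-/

set_option autoImplicit false
set_option linter.unusedSectionVars false
set_option linter.style.haveILetI false

namespace Cfsg.Agent.GrossTwoLength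

open Subgroup

universe u

theorem pow_eq_one_of_exponent {G : Type*} [Group G] [Finite G] {e : ℕ}
    (hexp : ∀ P : Sylow 2 G, ∀ x ∈ (P : Subgroup G), x ^ 2 ^ e = 1) {x : G} {n : ℕ}
    (hx : x ^ 2 ^ n = 1) : x ^ 2 ^ e = 1 := by
  haveI : Fact (Nat.Prime 2) := ⟨Nat.prime_two⟩
  obtain ⟨j, -, hj⟩ := (Nat.dvd_prime_pow Nat.prime_two).1 (orderOf_dvd_of_pow_eq_one hx)
  obtain ⟨P, hP⟩ := (IsPGroup.of_card (p := 2) (G := zpowers x)
    ((Nat.card_zpowers x).trans hj)).exists_le_sylow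
  exact hexp P x (hP (mem_zpowers x))

theorem exponent_map {G H : Type*} [Group G] [Finite G] [Group H] [Finite H] {e : ℕ} (f : G →* H)
    (hf : Function.Surjective f) (hexp : ∀ P : Sylow 2 G, ∀ x ∈ (P : Subgroup G), x ^ 2 ^ e = 1) :
    ∀ P : Sylow 2 H, ∀ x ∈ (P : Subgroup H), x ^ 2 ^ e = 1 := by
  haveI : Fact (Nat.Prime 2) := ⟨Nat.prime_two⟩
  intro P x hx
  obtain ⟨T, rfl⟩ := Sylow.mapSurjective_surjective hf 2 P
  obtain ⟨u, hu, rfl⟩ := hx
  rw [← map_pow, hexp T u hu, map_one]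

/-- The linear configuration of `G / O_2(G)` when `O_{2'}(G) = 1`. -/
theorem pow_mem_of_reduced {G : Type*} [Group G] [Finite G] [Group.IsSolvable G] {e : ℕ} (he : 1 ≤ e)
    (hbot : pPrimeCore 2 G = ⊥) (hexp : ∀ P : Sylow 2 G, ∀ x ∈ (P : Subgroup G), x ^ 2 ^ e = 1)
    (x : G ⧸ pCore 2 G) (n : ℕ) (hx : x ^ 2 ^ n = 1) :
    x ^ 2 ^ (e - 1) ∈ pPrimePCore 2 (G ⧸ pCore 2 G) := by
  classical
  haveI : Fact (Nat.Prime 2) := ⟨Nat.prime_two⟩
  set O := pCore 2 G with hO
  have hOp : IsPGroup 2 O := PCore.isPGroup_pCore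
  haveI hOn : O.Normal := PCore.pCore_normal
  set Φ := (frattini O).map O.subtype with hΦ
  haveI hΦn : Φ.Normal := by rw [hΦ]; infer_instance
  obtain ⟨hΦO, ⟨hVc, hVexp⟩, -, hVcen⟩ :=
    HallHigman.frattini_quotient_facts PCore.isPSolvable_of_isSolvable hbot Φ rfl
  set f := QuotientGroup.mk' Φ with hf
  set V := O.map f with hV
  haveI : V.Normal := hOn.map f (QuotientGroup.mk'_surjective _)
  letI : CommGroup V := { (inferInstance : Group V) with mul_comm := fun a b => hVc.is_comm.comm a b }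
  obtain ⟨d, R, hR⟩ := FittingHeight.exists_endRepresentation (V := Additive V) 2 (fun w => by
    show Additive.ofMul (Additive.toMul w ^ 2) = 0
    rw [show Additive.toMul w ^ 2 = 1 from Subtype.ext (hVexp _ (Additive.toMul w).2)]
    rfl)
  let toEnd : MulAut V →* AddMonoid.End (Additive V) :=
    { toFun := fun a => MonoidHom.toAdditive a.toMonoidHom
      map_one' := AddMonoidHom.ext fun _ => rfl
      map_mul' := fun _ _ => AddMonoidHom.ext fun _ => rfl }
  let act : G →* MulAut V := (MulAut.conjNormal (H := V)).comp f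
  have hact : ∀ (g : G) (w : V), ((act g w : V) : G ⧸ Φ) = f g * w * (f g)⁻¹ := fun g w => rfl
  have hactO : ∀ g ∈ O, act g = 1 := fun g hg => MulEquiv.ext fun w => Subtype.ext (by
    show ((act g w : V) : G ⧸ Φ) = w
    rw [hact]
    have h1 : f g * w = w * f g :=
      congrArg Subtype.val (mul_comm (⟨f g, mem_map_of_mem f hg⟩ : V) w)
    rw [h1, mul_inv_cancel_right])
  let actM : G ⧸ O →* MulAut V := QuotientGroup.lift O act fun g hg => hactO g hg
  let ρ : G ⧸ O →* Module.End (AlgebraicClosure (ZMod 2)) (Fin d → AlgebraicClosure (ZMod 2)) :=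
    R.toMonoidHom.comp (toEnd.comp actM)
  have hfaith : ∀ m : G ⧸ O, ρ m = 1 → m = 1 := by
    intro m hm
    induction m using QuotientGroup.induction_on with | _ g => ?_
    have h1 : toEnd (act g) = 1 := hR (hm.trans (map_one R).symm)
    rw [QuotientGroup.eq_one_iff]
    have hgV : f g ∈ centralizer (V : Set (G ⧸ Φ)) := mem_centralizer_iff.2 fun w hw => by
      have h2 : act g ⟨w, hw⟩ = ⟨w, hw⟩ :=
        congrArg Additive.toMul (DFunLike.congr_fun h1 (Additive.ofMul (⟨w, hw⟩ : V)))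
      have h3 : f g * w * (f g)⁻¹ = w := congrArg Subtype.val h2
      exact (mul_inv_eq_iff_eq_mul.1 h3).symm
    obtain ⟨o, ho, hog⟩ := hVcen hgV
    have hm' : o⁻¹ * g ∈ O := hΦO (QuotientGroup.eq.1 hog)
    have := mul_mem ho hm'
    rwa [mul_inv_cancel_left] at this
  have hO1 : pCore 2 (G ⧸ O) = ⊥ := PCore.pCore_quotient_self_eq_bot
  have hlift : ∀ (g : G) (m : ℕ), ((g : G ⧸ O)) ^ 2 ^ m = 1 → g ^ 2 ^ e = 1 := by
    intro g m hg
    have hm : g ^ 2 ^ m ∈ O := (QuotientGroup.eq_one_iff _).1 hg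
    obtain ⟨b, hb⟩ := hOp ⟨_, hm⟩
    refine pow_eq_one_of_exponent hexp (n := m + b) ?_
    rw [pow_add, pow_mul]
    exact congrArg Subtype.val hb
  have hall : ∀ (m : G ⧸ O) (a : ℕ), m ^ 2 ^ a = 1 → m ^ 2 ^ e = 1 ∧ CyclicSumZero ρ m e ⊤ := by
    intro m a hm
    induction m using QuotientGroup.induction_on with | _ g => ?_
    have hge := hlift g a hm
    refine ⟨by rw [← QuotientGroup.mk_pow, hge, QuotientGroup.mk_one], fun w _ => ?_⟩
    have key : ∑ i ∈ Finset.range (2 ^ e), toEnd (act (g ^ i)) = 0 := by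
      refine AddMonoidHom.ext fun z => ?_
      refine (AddMonoidHom.finsetSum_apply _ _ _).trans ?_
      show ∑ i ∈ Finset.range (2 ^ e), Additive.ofMul (act (g ^ i) (Additive.toMul z)) = 0
      rw [← ofMul_prod]
      refine Additive.toMul.injective ?_
      show ∏ i ∈ Finset.range (2 ^ e), act (g ^ i) (Additive.toMul z) = 1
      set w' : V := Additive.toMul z
      have hid : ∀ n : ℕ, ((w' : G ⧸ Φ) * f g) ^ n =
          ((∏ i ∈ Finset.range n, act (g ^ i) w' : V) : G ⧸ Φ) * f g ^ n := by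
        intro n
        induction n with
        | zero => simp
        | succ n ih =>
          rw [pow_succ, ih, Finset.prod_range_succ, Subgroup.coe_mul, hact, map_pow, pow_succ (f g)]
          simp only [mul_assoc, inv_mul_cancel_left]
      obtain ⟨o, ho, how⟩ := w'.2
      have h0 : (o * g) ^ 2 ^ e = 1 := hlift _ a (by
        rw [QuotientGroup.mk_mul, (QuotientGroup.eq_one_iff o).2 ho, one_mul]; exact hm)
      have h1 := hid (2 ^ e)
      rw [← map_pow f g, hge, map_one, mul_one, ← how, ← map_mul, ← map_pow, h0, map_one] at h1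
      exact Subtype.ext h1.symm
    have h2 : ∑ i ∈ Finset.range (2 ^ e), ρ ((g : G ⧸ O) ^ i) = 0 := by
      have : ∀ i : ℕ, ρ ((g : G ⧸ O) ^ i) = R (toEnd (act (g ^ i))) := fun i => by
        rw [← QuotientGroup.mk_pow]; rfl
      simp only [this]
      rw [← map_sum, key, map_zero]
    rw [← LinearMap.sum_apply, h2, LinearMap.zero_apply]
  exact tau_mem_pPrimePCore ρ hfaith hO1 he hall hx

private theorem pLengthLE_aux : ∀ (n : ℕ) {G : Type u} [Group G] [Finite G], Group.IsSolvable G →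
    (∀ P : Sylow 2 G, ∀ x ∈ (P : Subgroup G), x ^ 2 ^ (n + 1) = 1) → PLengthLE 2 (2 * n + 1) G := by
  haveI : Fact (Nat.Prime 2) := ⟨Nat.prime_two⟩
  intro n
  induction n with
  | zero =>
    intro G _ _ hG hexp
    obtain ⟨S⟩ := (inferInstance : Nonempty (Sylow 2 G))
    haveI : Group.IsNilpotent ↥(S : Subgroup G) := S.2.isNilpotent
    refine PCore.pLengthLE_mono ?_
      (PCore.pLengthLE_nilpotencyClass PCore.isPSolvable_of_isSolvable S)
    rw [Nat.mul_zero, Nat.zero_add, Group.IsNilpotent.nilpotencyClass_le_one_iff]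
    have hsq : ∀ a : (S : Subgroup G), a * a = 1 := fun a => Subtype.ext (by
      rw [Subgroup.coe_mul, ← pow_two]
      exact hexp S a a.2)
    refine ⟨⟨fun a b => ?_⟩⟩
    have hinv : ∀ a : (S : Subgroup G), a⁻¹ = a := fun a => inv_eq_of_mul_eq_one_left (hsq a)
    calc a * b = (a * b)⁻¹ := (hinv _).symm
      _ = b * a := by rw [mul_inv_rev, hinv, hinv]
  | succ n ih =>
    intro G _ _ hG hexp
    haveI := hG
    refine PCore.pLengthLE_of_ker_le_pPrimeCore (QuotientGroup.mk' (pPrimeCore 2 G))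
      (QuotientGroup.mk'_surjective _) (QuotientGroup.ker_mk' _).le ?_
    have hexp0 := exponent_map _ (QuotientGroup.mk'_surjective (pPrimeCore 2 G)) hexp
    have hbot : pPrimeCore 2 (G ⧸ pPrimeCore 2 G) = ⊥ := PCore.pPrimeCore_quotient_self_eq_bot
    set H := G ⧸ pPrimeCore 2 G
    rw [show 2 * (n + 1) + 1 = 2 * n + 1 + 1 + 1 by omega]
    refine PCore.pLengthLE_succ_of_isPGroup_ker (QuotientGroup.mk' (pCore 2 H))
      (QuotientGroup.mk'_surjective _) (QuotientGroup.ker_mk' _).le ?_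
    have hmain := pow_mem_of_reduced (by omega) hbot hexp0
    set M := H ⧸ pCore 2 H
    refine PCore.pLengthLE_of_ker_le_pPrimeCore (QuotientGroup.mk' (pPrimeCore 2 M))
      (QuotientGroup.mk'_surjective _) (QuotientGroup.ker_mk' _).le ?_
    set f := QuotientGroup.map (pPrimeCore 2 M) (pPrimePCore 2 M) (MonoidHom.id M)
      PCore.pPrimeCore_le_pPrimePCore
    have hfs : Function.Surjective f := fun u => by
      obtain ⟨m, rfl⟩ := QuotientGroup.mk'_surjective _ u
      exact ⟨(m : M ⧸ pPrimeCore 2 M), rfl⟩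
    have hker : f.ker ≤ pCore 2 (M ⧸ pPrimeCore 2 M) := by
      intro u hu
      obtain ⟨m, rfl⟩ := QuotientGroup.mk'_surjective (pPrimeCore 2 M) u
      have hm : m ∈ pPrimePCore 2 M := (QuotientGroup.eq_one_iff m).1 hu
      exact hm
    refine PCore.pLengthLE_succ_of_isPGroup_ker f hfs hker (ih inferInstance ?_)
    intro P u hu
    obtain ⟨T, rfl⟩ := Sylow.mapSurjective_surjective
      (QuotientGroup.mk'_surjective (pPrimePCore 2 M)) 2 P
    obtain ⟨v, hv, rfl⟩ := hu
    obtain ⟨b, hb⟩ := T.2 ⟨v, hv⟩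
    rw [← map_pow]
    exact (QuotientGroup.eq_one_iff _).2 (hmain v b (congrArg Subtype.val hb))

/-- Gross's bound on the 2-length. -/
theorem pLengthLE_gross {G : Type*} [Group G] [Finite G] (hG : Group.IsSolvable G) (e : ℕ) (he : 1 ≤ e)
    (hexp : ∀ P : Sylow 2 G, ∀ x ∈ (P : Subgroup G), x ^ 2 ^ e = 1) :
    PLengthLE 2 (2 * e - 1) G := by
  obtain ⟨n, rfl⟩ : ∃ n, e = n + 1 := ⟨e - 1, by omega⟩
  rw [show 2 * (n + 1) - 1 = 2 * n + 1 by omega]
  exact pLengthLE_aux n hG hexp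

end Cfsg.Agent.GrossTwoLength
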