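import Cfsg.Agent.Lib.GrossTwoLength.Basic

/-!
# Two rotations normalising a 2-group

`y`, `z` rotations normalising the 2-group `U` and the `q`-group `R`, with `c = τ_y τ_z ∈ R`,
where `R` normalises `U`. Then `c` centralises `U`.
-/

set_option autoImplicit false
set_option linter.unusedSectionVars false
set_option linter.style.haveILetI false

namespace Cfsg.Agent.GrossTwoLength

open Subgroup
open FittingHeight (Plane.Iso)

variable {q : ℕ} [Fact q.Prime] {V : Type*} [AddCommGroup V] [Module (ZMod q) V] [Finite V]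
  {C : Type*} [AddCommGroup C] {β : V →+ V →+ C} {d : ℕ}

/-- `g` maps `U` into itself by conjugation. -/
def Conj {X : Type*} [Group X] (g : X) (U : Subgroup X) : Prop := ∀ u ∈ U, g * u * g⁻¹ ∈ U

theorem Conj.pow {X : Type*} [Group X] {g : X} {U : Subgroup X} (h : Conj g U) :
    ∀ n : ℕ, Conj (g ^ n) U
  | 0 => fun u hu => by simpa using hu
  | n + 1 => fun u hu => by
    have := h _ (Conj.pow h n u hu)
    rwa [show g * (g ^ n * u * (g ^ n)⁻¹) * g⁻¹ = g ^ (n + 1) * u * (g ^ (n + 1))⁻¹ by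
      rw [pow_succ']; group] at this

theorem Conj.inv {X : Type*} [Group X] [Finite X] {g : X} {U : Subgroup X} (h : Conj g U) :
    Conj g⁻¹ U := by
  have := h.pow (orderOf g - 1)
  rwa [show g ^ (orderOf g - 1) = g⁻¹ from eq_inv_of_mul_eq_one_left (by
    rw [← pow_succ, Nat.sub_add_cancel (orderOf_pos g), pow_orderOf_eq_one])] at this

theorem Conj.mul {X : Type*} [Group X] {g g' : X} {U : Subgroup X} (h : Conj g U) (h' : Conj g' U) :
    Conj (g * g') U := fun u hu => by
  have := h _ (h' u hu)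
  rwa [show g * (g' * u * g'⁻¹) * g⁻¹ = g * g' * u * (g * g')⁻¹ by group] at this

theorem Conj.mem_normalizer {X : Type*} [Group X] [Finite X] {g : X} {U : Subgroup X}
    (h : Conj g U) : g ∈ normalizer (U : Set X) :=
  mem_normalizer_iff.2 fun u => ⟨fun hu => h u hu, fun hu => by
    have := h.inv _ hu
    rwa [show g⁻¹ * (g * u * g⁻¹) * g⁻¹⁻¹ = u by group] at this⟩

theorem isPGroup_sup_zpowers {X : Type*} [Group X] [Finite X] {g : X} {U : Subgroup X}
    (hU : IsPGroup 2 U) (h : Conj g U) {n : ℕ} (hg : g ^ 2 ^ n = 1) :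
    IsPGroup 2 (U ⊔ zpowers g : Subgroup X) := by
  refine hU.to_sup_of_normal_left' ?_ (zpowers_le.2 h.mem_normalizer)
  intro ⟨x, hx⟩
  obtain ⟨i, rfl⟩ := mem_zpowers_iff.1 hx
  exact ⟨n, Subtype.ext (by
    show (g ^ i) ^ 2 ^ n = 1
    rw [← zpow_natCast, ← zpow_mul, mul_comm, zpow_mul, zpow_natCast, hg, one_zpow])⟩

theorem iso_sup_zpowers {y : (Module.End (ZMod q) V)ˣ} {U : Subgroup (Module.End (ZMod q) V)ˣ}
    (hU : ∀ g ∈ U, Plane.Iso β g) (hy : Plane.Iso β y) :
    ∀ g ∈ U ⊔ zpowers y, Plane.Iso β g := by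
  let I : Subgroup (Module.End (ZMod q) V)ˣ :=
    { carrier := {g | Plane.Iso β g}
      one_mem' := fun _ _ => rfl
      mul_mem' := fun ha hb => FittingHeight.Plane.Iso.mul ha hb
      inv_mem' := fun ha => FittingHeight.Plane.Iso.inv ha }
  exact fun g hg => (sup_le (c := I) hU (zpowers_le.2 hy) hg : g ∈ I)

/-- An element of `q`-power order with a 2-power in `H` lies in `H`. -/
theorem mem_of_pow_two_mem {X : Type*} [Group X] {H : Subgroup X} (hq : q ≠ 2) {c : X} {k m : ℕ}
    (hc : c ^ q ^ k = 1) (h : c ^ 2 ^ m ∈ H) : c ∈ H := by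
  have hco : (orderOf c).Coprime (2 ^ m) :=
    (((Nat.coprime_primes (Fact.out : q.Prime) Nat.prime_two).2 hq).pow k m).coprime_dvd_left
      (orderOf_dvd_of_pow_eq_one hc)
  obtain ⟨j, hj⟩ := exists_pow_eq_self_of_coprime hco.symm
  rw [← hj]
  exact pow_mem h j

/-- The case of an element of `U` moving the plane of `y`. -/
theorem eq_one_of_moved (G : Geo (q := q) β d) {U R : Subgroup (Module.End (ZMod q) V)ˣ}
    (hU : IsPGroup 2 U) (hUi : ∀ g ∈ U, Plane.Iso β g) (hR : IsPGroup q R)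
    (hRU : ∀ r ∈ R, Conj r U) {y z : (Module.End (ZMod q) V)ˣ} (hy : IsRot β d y)
    (hz : IsRot β d z) (hyU : Conj y U) (hzU : Conj z U) (hyR : Conj y R)
    (hc : tau d y * tau d z ∈ R) {v : (Module.End (ZMod q) V)ˣ} (hv : v ∈ U)
    (hne : v * tau d y ≠ tau d y * v) : tau d y * tau d z = 1 := by
  classical
  set c := tau d y * tau d z with hcdef
  obtain ⟨kc, hkc⟩ : ∃ k, c ^ q ^ k = 1 := by
    obtain ⟨k, hk⟩ := hR ⟨c, hc⟩
    exact ⟨k, congrArg Subtype.val hk⟩
  have hinvc : tau d y * c * (tau d y)⁻¹ = c⁻¹ := by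
    rw [hcdef, mul_inv_rev, hy.tau_inv G, hz.tau_inv G, ← mul_assoc, hy.tau_sq G, one_mul]
  have hinv2 : tau d y * c⁻¹ * tau d y = c := by
    rw [hcdef, mul_inv_rev, hy.tau_inv G, hz.tau_inv G, mul_assoc, mul_assoc, hy.tau_sq G, mul_one]
  clear_value c
  have hyy : IsPGroup 2 (U ⊔ zpowers y : Subgroup _) := isPGroup_sup_zpowers hU hyU hy.pow
  have hyi := iso_sup_zpowers hUi hy.iso
  have hUy : U ≤ U ⊔ zpowers y := le_sup_left
  have hymem : y ∈ U ⊔ zpowers y := mem_sup_right (mem_zpowers y)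
  -- `τ ∉ U`
  by_cases htU : tau d y ∈ U
  · refine (mem_bot (G := (Module.End (ZMod q) V)ˣ)).1 (mem_of_pow_two_mem (q := q) G.ne_two hkc (m := 1) ?_)
    have h2 : c * tau d y * c⁻¹ * tau d y ∈ U := mul_mem (hRU c hc _ htU) htU
    have e : c * tau d y * c⁻¹ * tau d y = c ^ 2 ^ 1 := by
      rw [pow_one, pow_two, mul_assoc, mul_assoc, ← mul_assoc (tau d y), hinv2]
    rw [e] at h2
    obtain ⟨m, hm⟩ := hU ⟨_, h2⟩
    have hm' : (c ^ 2 ^ 1) ^ 2 ^ m = 1 := congrArg Subtype.val hm
    rw [← pow_mul, ← pow_add] at hm'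
    have := mem_of_pow_two_mem (H := (⊥ : Subgroup (Module.End (ZMod q) V)ˣ)) (q := q) G.ne_two hkc
      (m := 1 + m) (mem_bot.2 hm')
    rw [mem_bot] at this
    rw [this, one_pow]
    exact one_mem _
  have hcomm : ∀ w ∈ U, w * tau d y = tau d y * w → w * y = y * w := by
    intro w hw hwt
    rcases IsRot.conj_eq_or_inv G hyy hyi hy hymem (hUy hw) hwt with h | h
    · exact mul_inv_eq_iff_eq_mul.1 h
    · refine absurd ?_ htU
      have h1 : y * w * y⁻¹ * w⁻¹ ∈ U := mul_mem (hyU w hw) (inv_mem hw)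
      have e : y * w * y⁻¹ * w⁻¹ = y ^ 2 := by
        rw [show y * w * y⁻¹ * w⁻¹ = y * (w * y * w⁻¹)⁻¹ by group, h, inv_inv, pow_two]
      rw [e] at h1
      show y ^ 2 ^ (d - 1) ∈ U
      rw [show 2 ^ (d - 1) = 2 * 2 ^ (d - 2) by
        rw [← pow_succ']; congr 1; have := G.two_le; omega, pow_mul]
      exact pow_mem h1 _
  -- `u`
  have hex : ∃ k, v ^ 2 ^ k * tau d y = tau d y * v ^ 2 ^ k := by
    obtain ⟨m, hm⟩ := hU ⟨v, hv⟩
    exact ⟨m, by rw [show v ^ 2 ^ m = 1 from congrArg Subtype.val hm, one_mul, mul_one]⟩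
  obtain ⟨k₀, hk₀⟩ : ∃ k₀, Nat.find hex = k₀ + 1 := ⟨Nat.find hex - 1, by
    have : Nat.find hex ≠ 0 := fun h => hne (by simpa [h] using Nat.find_spec hex)
    omega⟩
  set u := v ^ 2 ^ k₀ with hu
  have huU : u ∈ U := pow_mem hv _
  have hune : u * tau d y ≠ tau d y * u := Nat.find_min hex (by omega)
  have hu2t : u * u * tau d y = tau d y * (u * u) := by
    have := Nat.find_spec hex
    rwa [hk₀, show v ^ 2 ^ (k₀ + 1) = u * u by rw [hu, ← pow_add]; ring_nf] at this
  set y2 := u * y * u⁻¹ with hy2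
  have hy2rot : IsRot β d y2 := hy.conj (hUi u huU)
  have htau2 : tau d y2 = u * tau d y * u⁻¹ := conj_pow ..
  have hne2 : tau d y ≠ tau d y2 := fun h => hune (eq_mul_inv_iff_mul_eq.1 (h.trans htau2)).symm
  have hy2mem : y2 ∈ U ⊔ zpowers y := mul_mem (mul_mem (hUy huU) hymem) (inv_mem (hUy huU))
  obtain ⟨hT_2, h2_T⟩ := (IsRot.eq_or_orth G hyy hyi hymem hy2mem hy hy2rot).resolve_left hne2
  have hyy2 : Commute y y2 := IsRot.comm_of_orth G hy hy2rot hT_2 h2_T
  -- `ε`
  set ε := tau d y * tau d y2 with hε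
  have hyε : Commute y ε := (Commute.self_pow y _).mul_right (hyy2.pow_right _)
  have htε : tau d y2 = ε * tau d y := by
    rw [hε, mul_assoc, ((hyy2.pow_pow _ _).eq.symm : tau d y2 * tau d y = tau d y * tau d y2),
      ← mul_assoc, hy.tau_sq G, one_mul]
  have huu : u * tau d y2 * u⁻¹ = tau d y := by
    rw [htau2, show u * (u * tau d y * u⁻¹) * u⁻¹ = u * u * tau d y * (u * u)⁻¹ by
      simp only [mul_assoc, mul_inv_rev], hu2t, mul_assoc, mul_inv_cancel, mul_one]
  have huε : Commute u ε := by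
    refine mul_inv_eq_iff_eq_mul.1 ?_
    rw [hε, show u * (tau d y * tau d y2) * u⁻¹ = u * tau d y * u⁻¹ * (u * tau d y2 * u⁻¹) by
      simp only [mul_assoc, inv_mul_cancel_left], huu, ← htau2]
    exact (hyy2.pow_pow _ _).eq.symm
  clear_value ε
  set U_E := U ⊓ centralizer ({ε} : Set (Module.End (ZMod q) V)ˣ) with hUE
  have huUE : u ∈ U_E := ⟨huU, mem_centralizer_singleton_iff.2 huε.eq⟩
  -- the negated space of `ε`
  have hTE : ∀ x ∈ plane d y, ε • x = -x := fun x hx => by
    rw [hε, mul_smul, hT_2 x hx, mem_plane.1 hx]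
  have h2E : ∀ x ∈ plane d y2, ε • x = -x := fun x hx => by
    rw [hε, mul_smul, mem_plane.1 hx, smul_neg, h2_T x hx]
  have hEdec : ∀ w, ε • w = -w → tau d y • w = w → w ∈ plane d y2 := fun w hw hwt => by
    rw [mem_plane, htε, mul_smul, hwt, hw]
  have hwsplit : ∀ w ∈ U_E, w * tau d y = tau d y * w ∨
      (u⁻¹ * w) * tau d y = tau d y * (u⁻¹ * w) := by
    intro w hw
    have hwrot : IsRot β d (w * y * w⁻¹) := hy.conj (hUi w hw.1)
    have htw : tau d (w * y * w⁻¹) = w * tau d y * w⁻¹ := conj_pow ..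
    rcases IsRot.eq_or_orth G hyy hyi hymem (mul_mem (mul_mem (hUy hw.1) hymem) (inv_mem (hUy hw.1)))
      hy hwrot with h | ⟨-, h⟩
    · left
      exact (eq_mul_inv_iff_mul_eq.1 (h.trans htw)).symm
    · right
      have hle : ∀ x ∈ plane d (w * y * w⁻¹), x ∈ plane d y2 := by
        intro x hx
        refine hEdec x ?_ (h x hx)
        rw [mem_plane, htw, mul_smul, mul_smul, smul_eq_iff_eq_inv_smul, smul_neg] at hx
        have h1 : ε • w⁻¹ • x = -(w⁻¹ • x) := hTE _ (mem_plane.2 hx)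
        rw [← smul_neg, smul_smul, show ε * w⁻¹ = w⁻¹ * ε from
          (show Commute w ε from mem_centralizer_singleton_iff.1 hw.2).inv_left.eq.symm,
          mul_smul] at h1
        exact smul_left_cancel _ h1
      have h1 := IsRot.tau_eq_of_le G hwrot hy2rot hle
      rw [htw, htau2] at h1
      calc u⁻¹ * w * tau d y = u⁻¹ * (w * tau d y * w⁻¹) * w := by
            simp only [mul_assoc, inv_mul_cancel, mul_one]
        _ = u⁻¹ * (u * tau d y * u⁻¹) * w := by rw [h1]
        _ = tau d y * (u⁻¹ * w) := by simp only [mul_assoc, inv_mul_cancel_left]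
  -- `h`
  set b := (y * y2⁻¹) ^ 2 ^ (d - 2) with hb
  have hBU : y * y2⁻¹ ∈ U_E := by
    refine ⟨?_, mem_centralizer_singleton_iff.2 ?_⟩
    · have := mul_mem (hyU u huU) (inv_mem huU)
      rwa [show y * u * y⁻¹ * u⁻¹ = y * y2⁻¹ by rw [hy2]; group] at this
    · refine (hyε.mul_left (Commute.inv_left ?_)).eq
      exact hε ▸ (hyy2.symm.pow_right _).mul_right (Commute.self_pow y2 _)
  have hbU : b ∈ U_E := pow_mem hBU _
  set h := tau d y * b with hh
  have hMN : 2 ^ (d - 1) = 2 ^ (d - 2) + 2 ^ (d - 2) := by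
    rw [← mul_two, ← pow_succ]; congr 1; have := G.two_le; omega
  have h4 : ∀ a : (Module.End (ZMod q) V)ˣ, a ^ 2 ^ d = 1 →
      a ^ (2 ^ (d - 1) + 2 ^ (d - 2)) = (a ^ 2 ^ (d - 2))⁻¹ := fun a ha => by
    refine eq_inv_of_mul_eq_one_left ?_
    rw [← pow_add, add_assoc, ← hMN, ← two_mul, mul_comm, G.pow_sub_one_succ, ha]
  have hy2pow : y2 ^ 2 ^ d = 1 := hy2rot.pow
  have huy2 : u * y2 * u⁻¹ = y := by
    rw [hy2, show u * (u * y * u⁻¹) * u⁻¹ = u * u * y * (u * u)⁻¹ by
      simp only [mul_assoc, mul_inv_rev], hcomm _ (mul_mem huU huU) hu2t, mul_assoc, mul_inv_cancel,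
      mul_one]
  clear_value h
  have hh' : h = y ^ (2 ^ (d - 1) + 2 ^ (d - 2)) * (y2 ^ 2 ^ (d - 2))⁻¹ := by
    rw [hh, hb, hyy2.inv_right.mul_pow, inv_pow, ← mul_assoc, ← pow_add]
  have hcenh : ∀ w ∈ U_E, Commute w h := by
    have hfix : ∀ w ∈ U_E, w * tau d y = tau d y * w → Commute w h := by
      intro w hw hwt
      have h1 : Commute w y := hcomm w hw.1 hwt
      have hw2 : (u⁻¹ * w * u) * tau d y = tau d y * (u⁻¹ * w * u) := by
        have : w * tau d y2 = tau d y2 * w := by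
          rw [htε]
          exact ((show Commute w ε from mem_centralizer_singleton_iff.1 hw.2).mul_right hwt).eq
        rw [htau2] at this
        calc u⁻¹ * w * u * tau d y = u⁻¹ * (w * (u * tau d y * u⁻¹)) * u := by
              simp only [mul_assoc, inv_mul_cancel, mul_one]
          _ = u⁻¹ * (u * tau d y * u⁻¹ * w) * u := by rw [this]
          _ = tau d y * (u⁻¹ * w * u) := by simp only [mul_assoc, inv_mul_cancel_left]
      have h2 : Commute w y2 := by
        have h3 := hcomm _ (mul_mem (mul_mem (inv_mem huU) hw.1) huU) hw2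
        show w * y2 = y2 * w
        rw [hy2]
        calc w * (u * y * u⁻¹) = u * (u⁻¹ * w * u * y) * u⁻¹ := by group
          _ = u * (y * (u⁻¹ * w * u)) * u⁻¹ := by rw [h3]
          _ = u * y * u⁻¹ * w := by group
      exact hh ▸ hb ▸ (h1.pow_right _).mul_right ((h1.mul_right h2.inv_right).pow_right _)
    have hu_h : Commute u h := by
      refine mul_inv_eq_iff_eq_mul.1 ?_
      rw [hh', show u * (y ^ (2 ^ (d - 1) + 2 ^ (d - 2)) * (y2 ^ 2 ^ (d - 2))⁻¹) * u⁻¹ =
          (u * y ^ (2 ^ (d - 1) + 2 ^ (d - 2)) * u⁻¹) * (u * y2 ^ 2 ^ (d - 2) * u⁻¹)⁻¹ by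
        simp only [mul_assoc, mul_inv_rev, inv_inv, inv_mul_cancel_left],
        ← conj_pow, ← conj_pow, ← hy2, huy2, h4 _ hy2pow, h4 _ hy.pow]
      exact (hyy2.pow_pow _ _).inv_inv.eq.symm
    intro w hw
    rcases hwsplit w hw with hwt | hwt
    · exact hfix w hw hwt
    · have := hu_h.mul_left (hfix _ (mul_mem (inv_mem huUE) hw) hwt)
      rwa [mul_inv_cancel_left] at this
  -- `c` commutes with `ε`
  have hzε : Commute (tau d z) ε := by
    set B := y * y2⁻¹ with hB
    have hBi : ∀ i : ℕ, IsRot β d (B ^ i * z * (B ^ i)⁻¹) := fun i => hz.conj (hUi _ (pow_mem hBU.1 i))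
    have hzz : IsPGroup 2 (U ⊔ zpowers z : Subgroup _) := isPGroup_sup_zpowers hU hzU hz.pow
    have hzi := iso_sup_zpowers hUi hz.iso
    have hzmem : ∀ i : ℕ, B ^ i * z * (B ^ i)⁻¹ ∈ U ⊔ zpowers z := fun i =>
      mul_mem (mul_mem (mem_sup_left (pow_mem hBU.1 i)) (mem_sup_right (mem_zpowers z)))
        (inv_mem (mem_sup_left (pow_mem hBU.1 i)))
    have htB : ∀ i : ℕ, tau d (B ^ i * z * (B ^ i)⁻¹) = B ^ i * tau d z * (B ^ i)⁻¹ :=
      fun i => conj_pow ..
    have hεB : ε = B ^ 2 ^ (d - 1) := by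
      rw [hε, hB, hyy2.inv_right.mul_pow, inv_pow]
      exact congrArg _ (hy2rot.tau_inv G).symm
    rw [hεB, show 2 ^ (d - 1) = 2 * 2 ^ (d - 2) by
      rw [← pow_succ']; congr 1; have := G.two_le; omega, pow_mul]
    refine Commute.pow_right ?_ _
    by_contra hB2
    have hnot : ∀ i, i = 1 ∨ i = 2 ∨ i = 3 → ¬ Commute (tau d z) (B ^ i) := by
      rintro i (rfl | rfl | rfl) h
      · exact hB2 (by rw [pow_one] at h; exact h.pow_right 2)
      · exact hB2 h
      · refine hB2 ?_
        obtain ⟨m, hm⟩ := hU ⟨B, hBU.1⟩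
        have hco : Nat.Coprime 3 (orderOf B) :=
          (Nat.Coprime.pow_right m (by norm_num : Nat.Coprime 3 2)).coprime_dvd_right
            (orderOf_dvd_of_pow_eq_one (congrArg Subtype.val hm))
        obtain ⟨j, hj⟩ := exists_pow_eq_self_of_coprime hco
        have := (h.pow_right j).pow_right 2
        rwa [hj] at this
    have horth : ∀ i, i = 1 ∨ i = 2 ∨ i = 3 → ∀ s ∈ plane d z, ∀ t ∈ plane d z,
        β s (B ^ i • t) = 0 := by
      intro i hi s hs t ht
      rcases IsRot.eq_or_orth G hzz hzi (by simpa using hzmem 0) (hzmem i) hz (hBi i) with h | ⟨-, h⟩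
      · rw [htB] at h
        exact absurd (show Commute (tau d z) (B ^ i) from (eq_mul_inv_iff_mul_eq.1 h)) (hnot i hi)
      · exact hz.orth G hs (h _ (IsRot.mem_plane_conj (B ^ i) ht))
    -- four orthogonal planes in a space of order at most `q ^ 6`
    let W : Submodule (ZMod q) V := plane d z ⊔ (plane d y ⊔ plane d y2)
    have hBE : ∀ w, B • w - w ∈ plane d y ⊔ plane d y2 := fun w => by
      have e : B • w - w = (y • (y2⁻¹ • w) - y2⁻¹ • w) - (y2 • (y2⁻¹ • w) - y2⁻¹ • w) := by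
        rw [hB, mul_smul, smul_inv_smul]; abel
      rw [e]
      exact sub_mem (Submodule.mem_sup_left (hy.smul_sub_mem G _))
        (Submodule.mem_sup_right (hy2rot.smul_sub_mem G _))
    have hBW : ∀ (i : ℕ), ∀ t ∈ plane d z, B ^ i • t ∈ W := by
      intro i t ht
      induction i with
      | zero => rw [pow_zero, one_smul]; exact Submodule.mem_sup_left ht
      | succ i ih =>
        rw [pow_succ', mul_smul, ← sub_add_cancel (B • B ^ i • t) (B ^ i • t)]
        exact add_mem (Submodule.mem_sup_right (hBE _)) ih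
    let P := plane d z
    let F : P × P × P × P → W := fun p => ⟨(p.1 : V) + B ^ 1 • (p.2.1 : V) + B ^ 2 • (p.2.2.1 : V) +
      B ^ 3 • (p.2.2.2 : V), add_mem (add_mem (add_mem (Submodule.mem_sup_left p.1.2)
        (hBW 1 _ p.2.1.2)) (hBW 2 _ p.2.2.1.2)) (hBW 3 _ p.2.2.2.2)⟩
    have hoff : ∀ i j : ℕ, i < 4 → j < 4 → i ≠ j → ∀ s ∈ P, ∀ t ∈ P,
        β (B ^ i • s) (B ^ j • t) = 0 := by
      have hlt : ∀ i j : ℕ, j < 4 → i < j → ∀ s ∈ P, ∀ t ∈ P,
          β (B ^ i • s) (B ^ j • t) = 0 := fun i j hj hij s hs t ht => by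
        rw [show B ^ j • t = B ^ i • B ^ (j - i) • t by
          rw [smul_smul, ← pow_add, Nat.add_sub_cancel' hij.le],
          show β (B ^ i • s) (B ^ i • B ^ (j - i) • t) = β s (B ^ (j - i) • t) from
            hUi _ (pow_mem hBU.1 i) s _]
        exact horth _ (by omega) s hs t ht
      intro i j hi hj hij s hs t ht
      rcases hij.lt_or_gt with h | h
      · exact hlt i j hj h s hs t ht
      · exact G.skew_zero (hlt j i hi h t ht s hs)
    have hdiag : ∀ i : ℕ, ∀ s t : V, β (B ^ i • s) (B ^ i • t) = β s t := fun i s t =>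
      hUi _ (pow_mem hBU.1 i) s t
    have hsub : ∀ a b c e : V, a ∈ P → b ∈ P → c ∈ P → e ∈ P →
        B ^ 0 • a + B ^ 1 • b + B ^ 2 • c + B ^ 3 • e = 0 → a = 0 ∧ b = 0 ∧ c = 0 ∧ e = 0 := by
      intro a b c e ha hb' hc' he h0
      have key : ∀ i : ℕ, ∀ s, β (B ^ i • s) (B ^ 0 • a) + β (B ^ i • s) (B ^ 1 • b) +
          β (B ^ i • s) (B ^ 2 • c) + β (B ^ i • s) (B ^ 3 • e) = 0 := fun i s => by
        rw [← map_add, ← map_add, ← map_add, h0, map_zero]
      refine ⟨hz.nondeg G ha fun s hs => ?_, hz.nondeg G hb' fun s hs => ?_,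
        hz.nondeg G hc' fun s hs => ?_, hz.nondeg G he fun s hs => ?_⟩
      · have := key 0 s
        rwa [hoff 0 1 (by omega) (by omega) (by omega) s hs b hb',
          hoff 0 2 (by omega) (by omega) (by omega) s hs c hc',
          hoff 0 3 (by omega) (by omega) (by omega) s hs e he, add_zero, add_zero, add_zero,
          hdiag] at this
      · have := key 1 s
        rwa [hoff 1 0 (by omega) (by omega) (by omega) s hs a ha,
          hoff 1 2 (by omega) (by omega) (by omega) s hs c hc',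
          hoff 1 3 (by omega) (by omega) (by omega) s hs e he, add_zero, add_zero, zero_add,
          hdiag] at this
      · have := key 2 s
        rwa [hoff 2 0 (by omega) (by omega) (by omega) s hs a ha,
          hoff 2 1 (by omega) (by omega) (by omega) s hs b hb',
          hoff 2 3 (by omega) (by omega) (by omega) s hs e he, add_zero, zero_add, zero_add,
          hdiag] at this
      · have := key 3 s
        rwa [hoff 3 0 (by omega) (by omega) (by omega) s hs a ha,
          hoff 3 1 (by omega) (by omega) (by omega) s hs b hb',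
          hoff 3 2 (by omega) (by omega) (by omega) s hs c hc', zero_add, zero_add, zero_add,
          hdiag] at this
    have hF : Function.Injective F := by
      rintro ⟨a, b', c', e⟩ ⟨a', b'', c'', e'⟩ hab
      have h0 := congrArg Subtype.val hab
      obtain ⟨e1, e2, e3, e4⟩ := hsub _ _ _ _ (a - a').2 (b' - b'').2 (c' - c'').2 (e - e').2 (by
        simp only [Submodule.coe_sub, pow_zero, one_smul, smul_sub]
        rw [← sub_eq_zero] at h0
        simp only [F] at h0
        linear_combination (norm := abel) h0)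
      rw [Submodule.coe_eq_zero, sub_eq_zero] at e1 e2 e3 e4
      rw [e1, e2, e3, e4]
    have hle := Nat.card_le_card_of_injective F hF
    rw [Nat.card_prod, Nat.card_prod, Nat.card_prod] at hle
    have hsupcard : ∀ A A' : Submodule (ZMod q) V, Nat.card (A ⊔ A' : Submodule (ZMod q) V) ≤
        Nat.card A * Nat.card A' := fun A A' => by
      rw [← Nat.card_prod]
      refine Nat.card_le_card_of_surjective (fun p : A × A' => (⟨(p.1 : V) + p.2,
        add_mem (Submodule.mem_sup_left p.1.2) (Submodule.mem_sup_right p.2.2)⟩ : (A ⊔ A' : Submodule _ V))) ?_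
      rintro ⟨w, hw⟩
      obtain ⟨a, ha, a', ha', rfl⟩ := Submodule.mem_sup.1 hw
      exact ⟨⟨⟨a, ha⟩, ⟨a', ha'⟩⟩, rfl⟩
    have hW := (hsupcard (plane d z) (plane d y ⊔ plane d y2)).trans
      (Nat.mul_le_mul_left _ (hsupcard (plane d y) (plane d y2)))
    rw [hz.card, hy.card, hy2rot.card] at hW
    rw [hz.card] at hle
    have h86 := hle.trans hW
    have hq : 1 < q := (Fact.out : q.Prime).one_lt
    rw [← pow_add, ← pow_add, ← pow_add] at h86
    have := (Nat.pow_le_pow_iff_right hq).1 (le_trans (le_of_eq (by ring)) h86 : q ^ 8 ≤ q ^ 6)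
    omega
  have htε' : Commute (tau d y) ε := hyε.pow_left _
  have hcε : Commute c ε := hcdef ▸ htε'.mul_left hzε
  -- `c` centralises `U_E`
  have hcUE : ∀ g : (Module.End (ZMod q) V)ˣ, Conj g U → Commute g ε → Conj g U_E :=
    fun g hg hgε w hw => ⟨hg w hw.1, mem_centralizer_singleton_iff.2 (((hgε.mul_left
      (mem_centralizer_singleton_iff.1 hw.2 : Commute w ε)).mul_left hgε.inv_left).eq)⟩
  have hcC : ∀ w ∈ U_E, Commute c w := by
    have hcU := hcUE c (hRU c hc) hcε
    set h' := c * h * c⁻¹ with hh''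
    set b' := c * b⁻¹ * c⁻¹ with hb'
    have hb'U : b' ∈ U_E := hcU _ (inv_mem hbU)
    have hh'C : ∀ w ∈ U_E, Commute w h' := by
      intro w hw
      have := hcenh _ ((hcUE _ (hRU c hc).inv hcε.inv_left) w hw)
      rw [inv_inv] at this
      show w * (c * h * c⁻¹) = c * h * c⁻¹ * w
      calc w * (c * h * c⁻¹) = c * (c⁻¹ * w * c * h) * c⁻¹ := by group
        _ = c * (h * (c⁻¹ * w * c)) * c⁻¹ := by rw [this.eq]
        _ = c * h * c⁻¹ * w := by group
    have hcc : c * c = h' * h * (b' * b⁻¹) := by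
      have e2 : tau d y = h * b⁻¹ := by rw [hh, mul_inv_cancel_right]
      have e1 : c * tau d y * c⁻¹ = h' * b' := by
        rw [e2, hh'', hb']; group
      have e3 : c * c = c * tau d y * c⁻¹ * tau d y :=
        (congrArg (c * ·) hinv2.symm).trans (by simp only [mul_assoc])
      rw [e3, e1, e2]
      calc h' * b' * (h * b⁻¹) = h' * (b' * h) * b⁻¹ := by group
        _ = h' * (h * b') * b⁻¹ := by rw [(hcenh b' hb'U).eq]
        _ = h' * h * (b' * b⁻¹) := by group
    obtain ⟨m, hm⟩ := hU ⟨b' * b⁻¹, (mul_mem hb'U (inv_mem hbU)).1⟩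
    have hm' : (b' * b⁻¹) ^ 2 ^ m = 1 := congrArg Subtype.val hm
    intro w hw
    have hCw : Commute (c ^ 2 ^ (1 + m)) w := by
      have hbc : Commute (h' * h) (b' * b⁻¹) :=
        ((hh'C _ (mul_mem hb'U (inv_mem hbU))).mul_right (hcenh _ (mul_mem hb'U (inv_mem hbU)))).symm
      rw [pow_add, pow_mul, pow_one, pow_two, hcc, hbc.mul_pow, hm', mul_one]
      exact (((hh'C w hw).mul_right (hcenh w hw)).pow_right _).symm
    refine mem_centralizer_singleton_iff.1 (mem_of_pow_two_mem (q := q) G.ne_two hkc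
      (H := centralizer ({w} : Set (Module.End (ZMod q) V)ˣ)) (m := 1 + m) ?_)
    exact mem_centralizer_singleton_iff.2 hCw.eq
  -- the fixed space of `R'` on the negated space of `ε`
  let R' : Subgroup (Module.End (ZMod q) V)ˣ :=
    R ⊓ centralizer ({ε} : Set (Module.End (ZMod q) V)ˣ) ⊓ centralizer (U_E : Set (Module.End (ZMod q) V)ˣ)
  have hcR' : c ∈ R' := ⟨⟨hc, mem_centralizer_singleton_iff.2 hcε.eq⟩,
    mem_centralizer_iff.2 fun w hw => (hcC w hw).eq.symm⟩
  have hyR' : Conj y R' := by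
    intro r hr
    refine ⟨⟨hyR r hr.1.1, mem_centralizer_singleton_iff.2 (((hyε.mul_left
      (mem_centralizer_singleton_iff.1 hr.1.2 : Commute r ε)).mul_left hyε.inv_left).eq)⟩,
      mem_centralizer_iff.2 fun w hw => ?_⟩
    have := mem_centralizer_iff.1 hr.2 _ (hcUE _ hyU.inv hyε.inv_left w hw)
    rw [inv_inv] at this
    calc w * (y * r * y⁻¹) = y * (y⁻¹ * w * y * r) * y⁻¹ := by group
      _ = y * (r * (y⁻¹ * w * y)) * y⁻¹ := by rw [this]
      _ = y * r * y⁻¹ * w := by group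
  have huR' : ∀ r ∈ R', Commute r u := fun r hr => (mem_centralizer_iff.1 hr.2 u huUE).symm
  let E : Submodule (ZMod q) V := LinearMap.ker ((ε : Module.End (ZMod q) V) + 1)
  have hmemE : ∀ w, w ∈ E ↔ ε • w = -w := fun w => by
    rw [LinearMap.mem_ker, LinearMap.add_apply, Module.End.one_apply, ← eq_neg_iff_add_eq_zero]; rfl
  have hR'E : ∀ r ∈ R', ∀ w ∈ E, r • w ∈ E := fun r hr w hw => by
    rw [hmemE] at hw ⊢
    rw [smul_smul, ← mem_centralizer_singleton_iff.1 hr.1.2, mul_smul, hw, smul_neg]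
  letI : MulAction R' E :=
    { smul := fun r w => ⟨(r : (Module.End (ZMod q) V)ˣ) • (w : V), hR'E r r.2 w w.2⟩
      one_smul := fun w => Subtype.ext (one_smul _ (w : V))
      mul_smul := fun a b w => Subtype.ext (mul_smul (a : (Module.End (ZMod q) V)ˣ)
        (b : (Module.End (ZMod q) V)ˣ) (w : V)) }
  have hqE : q ∣ Nat.card E := by
    refine dvd_trans (hy.card ▸ dvd_pow_self q two_ne_zero) ?_
    have hle : plane d y ≤ E := fun x hx => (hmemE x).2 (hTE x hx)
    exact AddSubgroup.card_dvd_of_injective (Submodule.inclusion hle).toAddMonoidHom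
      (Submodule.inclusion_injective hle)
  have hR'q : IsPGroup q R' := hR.to_le (inf_le_left.trans inf_le_left)
  obtain ⟨f, hf, hf0⟩ := hR'q.exists_fixed_point_of_prime_dvd_card_of_fixed_point E hqE
    (a := (0 : E)) (fun r => Subtype.ext (smul_zero (r : (Module.End (ZMod q) V)ˣ)))
  -- the fixed space is `y`- and `u`-invariant
  let F0 : Submodule (ZMod q) V :=
    { carrier := {w | ∀ r ∈ R', r • w = w}
      zero_mem' := fun r _ => smul_zero r
      add_mem' := fun {a a'} ha ha' r hr => by rw [smul_add, ha r hr, ha' r hr]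
      smul_mem' := fun a w hw r hr => by rw [smul_zmod, hw r hr] }
  have hyF0 : ∀ w ∈ F0, y • w ∈ F0 := fun w hw r hr => by
    obtain ⟨r', hr', hrr'⟩ : ∃ r' ∈ R', r * y = y * r' :=
      ⟨y⁻¹ * r * y⁻¹⁻¹, hyR'.inv r hr, by group⟩
    rw [smul_smul, hrr', mul_smul, hw r' hr']
  have huF0 : ∀ w ∈ F0, u • w ∈ F0 := fun w hw r hr => by
    rw [smul_smul, (huR' r hr).eq, mul_smul, hw r hr]
  have hfF0 : (f : V) ∈ F0 := fun r hr => congrArg Subtype.val (hf ⟨r, hr⟩)
  suffices hT0 : ∀ x ∈ plane d y, x ∈ F0 by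
    have heq := IsRot.tau_eq_of_le G hy hz fun x hx => by
      have h1 : c • x = x := hT0 x hx c hcR'
      rw [hcdef, mul_smul, smul_eq_iff_eq_inv_smul, hy.tau_inv G, mem_plane.1 hx] at h1
      exact mem_plane.2 h1
    rw [hcdef, ← heq, hy.tau_sq G]
  have hgen : ∀ g, g ∈ plane d y → g ≠ 0 → g ∈ F0 → ∀ x ∈ plane d y, x ∈ F0 := by
    intro g hg hg0 hgF x hx
    by_contra hxF
    have hns : (⟨y • g, hy.smul_mem hg⟩ : plane d y) ∉
        Submodule.span (ZMod q) ({⟨g, hg⟩} : Set (plane d y)) := fun hmem => by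
      obtain ⟨a, ha⟩ := Submodule.mem_span_singleton.1 hmem
      exact hg0 (hy.no_eigen G hg (congrArg Subtype.val ha).symm)
    have htop := FittingHeight.Plane.span_pair_eq_top hy.card (fun e => hg0 (congrArg Subtype.val e)) hns
    obtain ⟨a, a', hab⟩ := Submodule.mem_span_pair.1 (htop.ge (Submodule.mem_top (x := ⟨x, hx⟩)))
    apply hxF
    rw [← show a • g + a' • y • g = x from congrArg Subtype.val hab]
    exact add_mem (F0.smul_mem _ hgF) (F0.smul_mem _ (hyF0 g hgF))
  by_cases hall : ∀ w ∈ F0, y • w = w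
  · exfalso
    have hf2 : (f : V) ∈ plane d y2 :=
      hEdec _ ((hmemE _).1 f.2) (by
        have : ∀ n : ℕ, y ^ n • (f : V) = f := fun n => by
          induction n with
          | zero => rw [pow_zero, one_smul]
          | succ n ih => rw [pow_succ, mul_smul, hall _ hfF0, ih]
        exact this _)
    have huf : u • (f : V) ∈ plane d y := by
      rw [mem_plane, ← huu, mul_smul, mul_smul, inv_smul_smul, mem_plane.1 hf2, smul_neg]
    have hfix : tau d y • (u • (f : V)) = u • (f : V) := by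
      have : ∀ n : ℕ, y ^ n • u • (f : V) = u • (f : V) := fun n => by
        induction n with
        | zero => rw [pow_zero, one_smul]
        | succ n ih => rw [pow_succ, mul_smul, hall _ (huF0 _ hfF0), ih]
      exact this _
    have := hy.disjoint G huf hfix
    exact hf0 (Subtype.ext ((smul_eq_zero_iff_eq u).1 this).symm)
  · push Not at hall
    obtain ⟨w, hw, hyw⟩ := hall
    exact hgen _ (hy.smul_sub_mem G w) (sub_ne_zero.2 hyw) (sub_mem (hyF0 w hw) hw)

/-- Two rotations normalising `U` and `R`: `c = τ_y τ_z` centralises `U`. -/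
theorem rotation_commute (G : Geo (q := q) β d) {U R : Subgroup (Module.End (ZMod q) V)ˣ}
    (hU : IsPGroup 2 U) (hUi : ∀ g ∈ U, Plane.Iso β g) (hR : IsPGroup q R)
    (hRU : ∀ r ∈ R, Conj r U) {y z : (Module.End (ZMod q) V)ˣ} (hy : IsRot β d y)
    (hz : IsRot β d z) (hyU : Conj y U) (hzU : Conj z U) (hyR : Conj y R) (hzR : Conj z R)
    (hc : tau d y * tau d z ∈ R) {v : (Module.End (ZMod q) V)ˣ} (hv : v ∈ U) :
    Commute (tau d y * tau d z) v := by
  by_cases hvy : v * tau d y = tau d y * v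
  · by_cases hvz : v * tau d z = tau d z * v
    · exact ((show Commute (tau d y) v from hvy.symm).mul_left hvz.symm)
    · have hc' : tau d z * tau d y ∈ R := by
        have := inv_mem hc
        rwa [mul_inv_rev, hy.tau_inv G, hz.tau_inv G] at this
      have h1 := eq_one_of_moved G hU hUi hR hRU hz hy hzU hyU hzR hc' hv hvz
      rw [show tau d y * tau d z = (tau d z * tau d y)⁻¹ by
        rw [mul_inv_rev, hy.tau_inv G, hz.tau_inv G], h1, inv_one]
      exact Commute.one_left v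
  · rw [eq_one_of_moved G hU hUi hR hRU hy hz hyU hzU hyR hc hv hvy]
    exact Commute.one_left v

end Cfsg.Agent.GrossTwoLength
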